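import Cfsg.Agent.H662.HT.Sym
import Cfsg.Agent.H828.HT.Def

/-!
# Frames of five anticommuting involutions: definitions (S3540, S3577; helper662)
-/

set_option autoImplicit false

open scoped commutatorElement

namespace Cfsg.Agent.H662.HT

open Cfsg.Agent.H828.HT

universe u v

section frame

variable {p : ℕ} [Fact p.Prime] {M : Type u} [AddCommGroup M] [Module (ZMod p) M]

/-- five pairwise anticommuting involutions with scalar product `± 1` -/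
structure Frame5 (t : Fin 5 → (M ≃ₗ[ZMod p] M)) : Prop where
  sq : ∀ k, t k * t k = 1
  anti : ∀ j k, j ≠ k → ∀ v : M, (t j * t k) v = -(t k * t j) v
  prod : (∀ v : M, (t 0 * t 1 * t 2 * t 3 * t 4) v = v) ∨ (∀ v : M, (t 0 * t 1 * t 2 * t 3 * t 4) v = -v)

/-- `P` permutes the `± t k` -/
def Norm5 (t : Fin 5 → (M ≃ₗ[ZMod p] M)) (P : Subgroup (M ≃ₗ[ZMod p] M)) : Prop :=
  ∀ g ∈ P, ∀ k, ∃ j, (∀ v : M, g (t k v) = t j (g v)) ∨ (∀ v : M, g (t k v) = -(t j (g v)))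

/-- the noncentral involutions of `P` -/
def Inv (P : Subgroup (M ≃ₗ[ZMod p] M)) : Set (M ≃ₗ[ZMod p] M) :=
  {y | y ∈ P ∧ y * y = 1 ∧ y ≠ 1 ∧ ∃ v : M, y v ≠ -v}

/-- every normal subgroup of `G` acts faithfully on every non-zero invariant subspace -/
def QPr (G : Subgroup (M ≃ₗ[ZMod p] M)) : Prop :=
  ∀ L : Subgroup G, L.Normal → ∀ W : Submodule (ZMod p) M, W ≠ ⊥ → (∀ x ∈ L, ∀ w ∈ W, x • w ∈ W) →
    ∀ x ∈ L, (∀ w ∈ W, x • w = w) → x = 1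

end frame

section beta

variable {V : Type u} [AddCommGroup V] [Fact (Nat.Prime 17)] [Module (ZMod 17) V]

/-- `G` normalises the pair `{t, -t}` -/
def Lst (G : Subgroup (V ≃ₗ[ZMod 17] V)) (t : V ≃ₗ[ZMod 17] V) : Set (V ≃ₗ[ZMod 17] V) :=
  {g | g ∈ G ∧ ((∀ v, g (t v) = t (g v)) ∨ (∀ v, g (t v) = -(t (g v))))}

/-- the elements of `Lst G t` acting trivially on `C_N(t) / <t> Z(N)` -/
def Kst (G N : Subgroup (V ≃ₗ[ZMod 17] V)) (t : V ≃ₗ[ZMod 17] V) : Set (V ≃ₗ[ZMod 17] V) :=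
  {g | g ∈ Lst G t ∧ ∀ x ∈ N, (∀ v, x (t v) = t (x v)) → ∃ c : ZMod 17, (∀ v, (g * x * g⁻¹) v = c • x v) ∨
    (∀ v, (g * x * g⁻¹) v = c • x (t v))}

/-- the elements of `G` fixing `C_V(t)` pointwise -/
def Rst (G : Subgroup (V ≃ₗ[ZMod 17] V)) (t : V ≃ₗ[ZMod 17] V) : Set (V ≃ₗ[ZMod 17] V) :=
  {g | g ∈ G ∧ ∀ v, t v = v → g v = v}

end beta

end Cfsg.Agent.H662.HT
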