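import Mathlib

/-!
# Normal subgroups of symplectic type of half-transitive linear groups: definitions (S3540, S3577; helper662)

`Sym s a N V`: `N` is a finite group acting on the finite abelian group `V`, with cyclic centre acting
semiregularly on the non-zero vectors, `N / Z(N)` elementary abelian of order `s ^ (2 a)`.
`Full s N`: every coset of the centre contains an element `x` with `x ^ s = 1`.
`fixp V S`: the fixed points of the subgroup `S`.
`sol s S`: the elements `n` of the centraliser of `S` with `n ^ s = 1`.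
-/

set_option autoImplicit false

open scoped commutatorElement

namespace Cfsg.Agent.H662.HT

universe u v

/-- A group of symplectic type acting on `V`. -/
structure Sym (s a : ℕ) (N : Type u) (V : Type v) [Group N] [AddCommGroup V] [DistribMulAction N V] : Prop where
  fin : Finite N
  finV : Finite V
  hs : s.Prime
  ha : 1 ≤ a
  nt : Nontrivial V
  cop : ¬ s ∣ Nat.card V
  cyc : IsCyclic (Subgroup.center N)
  semi : ∀ x ∈ Subgroup.center N, x ≠ 1 → ∀ v : V, x • v = v → v = 0
  comm : ∀ x y : N, ⁅x, y⁆ ∈ Subgroup.center N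
  exp : ∀ x : N, x ^ s ∈ Subgroup.center N
  card : Nat.card N = Nat.card (Subgroup.center N) * s ^ (2 * a)

/-- every coset of the centre contains an element of order dividing `s` -/
def Full (s : ℕ) (N : Type u) [Group N] : Prop :=
  ∀ x : N, ∃ c ∈ Subgroup.center N, (x * c) ^ s = 1

/-- the vectors fixed by `S` -/
def fixp {N : Type u} (V : Type v) [Group N] [AddCommGroup V] [DistribMulAction N V] (S : Subgroup N) :
    AddSubgroup V where
  carrier := {v | ∀ g ∈ S, g • v = v}
  zero_mem' := fun g _ => smul_zero g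
  add_mem' := fun {v w} hv hw g hg => by rw [smul_add, hv g hg, hw g hg]
  neg_mem' := fun {v} hv g hg => by rw [smul_neg, hv g hg]

theorem mem_fixp {N : Type u} {V : Type v} [Group N] [AddCommGroup V] [DistribMulAction N V] {S : Subgroup N} {v : V} :
    v ∈ fixp V S ↔ ∀ g ∈ S, g • v = v := Iff.rfl

/-- the elements `n` of the centraliser of `S` with `n ^ s = 1` -/
def sol (s : ℕ) {N : Type u} [Group N] (S : Subgroup N) : Set N :=
  {n | n ∈ Subgroup.centralizer (S : Set N) ∧ n ^ s = 1}

/-- the special vectors: the stabiliser has order `s ^ r` -/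
def spec (s r : ℕ) (N : Type u) (V : Type v) [Group N] [AddCommGroup V] [DistribMulAction N V] : Set V :=
  {v | v ≠ 0 ∧ Nat.card (MulAction.stabilizer N v) = s ^ r}

section basic

variable {s a : ℕ} {N : Type u} {V : Type v} [Group N] [AddCommGroup V] [DistribMulAction N V]

/-- stabilisers of non-zero vectors meet the centre trivially -/
theorem Sym.stab_inf (H : Sym s a N V) {v : V} (hv : v ≠ 0) :
    MulAction.stabilizer N v ⊓ Subgroup.center N = ⊥ := by
  rw [eq_bot_iff]
  rintro x ⟨hx, hc⟩
  by_contra h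
  exact hv (H.semi x hc h v hx)

/-- a subgroup meeting the centre trivially is commutative -/
theorem Sym.commS (H : Sym s a N V) {S : Subgroup N} (hS : S ⊓ Subgroup.center N = ⊥) {x y : N} (hx : x ∈ S)
    (hy : y ∈ S) : x * y = y * x := by
  have h0 : ⁅x, y⁆ ∈ S := by
    rw [commutatorElement_def]; exact S.mul_mem (S.mul_mem (S.mul_mem hx hy) (S.inv_mem hx)) (S.inv_mem hy)
  have h1 : ⁅x, y⁆ ∈ S ⊓ Subgroup.center N := Subgroup.mem_inf.2 ⟨h0, H.comm x y⟩
  rw [hS, Subgroup.mem_bot] at h1
  exact commutatorElement_eq_one_iff_mul_comm.1 h1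

/-- a subgroup meeting the centre trivially has exponent `s` -/
theorem Sym.expS (H : Sym s a N V) {S : Subgroup N} (hS : S ⊓ Subgroup.center N = ⊥) {x : N} (hx : x ∈ S) :
    x ^ s = 1 := by
  have h1 : x ^ s ∈ S ⊓ Subgroup.center N := Subgroup.mem_inf.2 ⟨S.pow_mem hx s, H.exp x⟩
  rwa [hS, Subgroup.mem_bot] at h1

/-- the commutator of powers -/
theorem Sym.comm_pow (H : Sym s a N V) (x y : N) : ⁅x, y⁆ ^ s = 1 := by
  have key : ∀ n : ℕ, ⁅x ^ n, y⁆ = ⁅x, y⁆ ^ n := by
    intro n
    induction n with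
    | zero => simp
    | succ n ih =>
      have h1 : ⁅x ^ n * x, y⁆ = x ^ n * ⁅x, y⁆ * (x ^ n)⁻¹ * ⁅x ^ n, y⁆ := by
        simp only [commutatorElement_def]; group
      have h2 := Subgroup.mem_center_iff.1 (H.comm x y) (x ^ n)
      rw [pow_succ, h1, h2, mul_inv_cancel_right, ih, ← pow_succ']
  rw [← key]
  exact commutatorElement_eq_one_iff_mul_comm.2 (Subgroup.mem_center_iff.1 (H.exp x) y).symm

/-- commutators are multiplicative in the first variable -/
theorem Sym.comm_mul_left (H : Sym s a N V) (x y z : N) : ⁅x * y, z⁆ = ⁅x, z⁆ * ⁅y, z⁆ := by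
  have h1 : ⁅x * y, z⁆ = x * ⁅y, z⁆ * x⁻¹ * ⁅x, z⁆ := by simp only [commutatorElement_def]; group
  rw [h1, Subgroup.mem_center_iff.1 (H.comm y z) x, mul_inv_cancel_right,
    Subgroup.mem_center_iff.1 (H.comm x z) ⁅y, z⁆]

/-- commutators are multiplicative in the second variable -/
theorem Sym.comm_mul_right (H : Sym s a N V) (x y z : N) : ⁅x, y * z⁆ = ⁅x, y⁆ * ⁅x, z⁆ := by
  have h1 : ⁅x, y * z⁆ = ⁅x, y⁆ * (y * ⁅x, z⁆ * y⁻¹) := by simp only [commutatorElement_def]; group
  rw [h1, Subgroup.mem_center_iff.1 (H.comm x z) y, mul_inv_cancel_right]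

/-- `N` acts faithfully -/
theorem Sym.faithful (H : Sym s a N V) {x : N} (hx : ∀ v : V, x • v = v) : x = 1 := by
  have := H.nt
  obtain ⟨v, hv⟩ := exists_ne (0 : V)
  have hc : x ∈ Subgroup.center N := by
    refine Subgroup.mem_center_iff.2 fun y => ?_
    by_contra hne
    have h2 : ⁅x, y⁆ ≠ 1 := fun h => hne (commutatorElement_eq_one_iff_mul_comm.1 h).symm
    refine hv (H.semi _ (H.comm x y) h2 v ?_)
    rw [commutatorElement_def]
    simp only [mul_smul]
    have h3 : x⁻¹ • y⁻¹ • v = y⁻¹ • v := by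
      rw [inv_smul_eq_iff, hx]
    rw [h3, smul_inv_smul, hx]
  by_contra hne
  exact hv (H.semi x hc hne v (hx v))

end basic

end Cfsg.Agent.H662.HT
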