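import Cfsg.Agent.H662.HT.Sym
import Cfsg.Agent.H828.HT.Basic

/-!
# Symplectic type: invariance of the special vectors, transport (S3540, S3577; helper662)
-/

set_option autoImplicit false

open scoped commutatorElement

namespace Cfsg.Agent.H662.HT

open Cfsg.Agent.H828.HT

universe u

section

variable {p : ℕ} [Fact p.Prime] {V : Type u} [AddCommGroup V] [Module (ZMod p) V] [Finite V]

/-- the stabiliser of `g v` in a normalised subgroup -/
theorem card_stab_smul {N : Subgroup (V ≃ₗ[ZMod p] V)} {g : V ≃ₗ[ZMod p] V} (hg : ∀ x ∈ N, g * x * g⁻¹ ∈ N)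
    (hg' : ∀ x ∈ N, g⁻¹ * x * g ∈ N) (v : V) :
    Nat.card (MulAction.stabilizer N (g v)) = Nat.card (MulAction.stabilizer N v) := by
  refine Nat.card_congr ⟨fun x => ⟨⟨g⁻¹ * (x : N) * g, hg' _ (x : N).2⟩, ?_⟩,
    fun x => ⟨⟨g * (x : N) * g⁻¹, hg _ (x : N).2⟩, ?_⟩, ?_, ?_⟩
  · have h1 : ((x : N) : V ≃ₗ[ZMod p] V) (g v) = g v := x.2
    change g⁻¹ (((x : N) : V ≃ₗ[ZMod p] V) (g v)) = v
    rw [h1]
    exact g.symm_apply_apply v
  · have h1 : ((x : N) : V ≃ₗ[ZMod p] V) v = v := x.2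
    change g (((x : N) : V ≃ₗ[ZMod p] V) (g⁻¹ (g v))) = g v
    have h2 : g⁻¹ (g v) = v := g.symm_apply_apply v
    rw [h2, h1]
  · intro x
    apply Subtype.ext; apply Subtype.ext
    change g * (g⁻¹ * ((x : N) : V ≃ₗ[ZMod p] V) * g) * g⁻¹ = ((x : N) : V ≃ₗ[ZMod p] V)
    group
  · intro x
    apply Subtype.ext; apply Subtype.ext
    change g⁻¹ * (g * ((x : N) : V ≃ₗ[ZMod p] V) * g⁻¹) * g = ((x : N) : V ≃ₗ[ZMod p] V)
    group

/-- the set of special vectors is invariant -/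
theorem spec_inv {G N : Subgroup (V ≃ₗ[ZMod p] V)} (hn : ∀ g ∈ G, ∀ x ∈ N, g * x * g⁻¹ ∈ N) {s r : ℕ} :
    ∀ g ∈ G, ∀ v ∈ spec s r N V, g v ∈ spec s r N V := by
  rintro g hg v ⟨hv, hc⟩
  refine ⟨fun h => hv (by rw [← g.symm_apply_apply v, h, map_zero]), ?_⟩
  rw [card_stab_smul (hn g hg) (fun x hx => by
    have := hn g⁻¹ (G.inv_mem hg) x hx
    rwa [inv_inv] at this) v]
  exact hc

/-- `m` divides the number of special vectors -/
theorem dvd_spec {G N : Subgroup (V ≃ₗ[ZMod p] V)} (hn : ∀ g ∈ G, ∀ x ∈ N, g * x * g⁻¹ ∈ N) {h m : ℕ}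
    (hh : Half G h) (h0 : 0 < h) (hm : m * h = Nat.card G) (s r : ℕ) : m ∣ Nat.card (spec s r N V) :=
  dvd_invariant hh h0 hm _ (fun h => h.1 rfl) (spec_inv hn)

/-- the order of `N` divides `m` if there is a free vector -/
theorem dvd_of_free {G N : Subgroup (V ≃ₗ[ZMod p] V)} (hN : N ≤ G) (hn : ∀ g ∈ G, ∀ x ∈ N, g * x * g⁻¹ ∈ N) {h m : ℕ}
    (hh : Half G h) (h0 : 0 < h) (hm : m * h = Nat.card G)
    (hf : ∃ v : V, v ≠ 0 ∧ MulAction.stabilizer N v = ⊥) : Nat.card N ∣ m := by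
  obtain ⟨v, hv, hs⟩ := hf
  refine card_normal_dvd_m hh h0 hm N hN hn hv fun n hnN hnv => ?_
  have h1 : (⟨n, hnN⟩ : N) ∈ MulAction.stabilizer N v := hnv
  rw [hs, Subgroup.mem_bot] at h1
  exact congrArg Subtype.val h1

end

/-- transport of `Sym` along an isomorphism -/
theorem Sym.congr {s a : ℕ} {N N' : Type*} {V : Type*} [Group N] [Group N'] [AddCommGroup V] [DistribMulAction N V]
    [DistribMulAction N' V] (H : Sym s a N V) (e : N ≃* N') (he : ∀ (x : N) (v : V), e x • v = x • v) :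
    Sym s a N' V := by
  have := H.fin
  have hc : ∀ x : N', x ∈ Subgroup.center N' ↔ e.symm x ∈ Subgroup.center N := by
    intro x
    simp only [Subgroup.mem_center_iff]
    constructor
    · intro h y
      have := h (e y)
      apply e.injective
      rw [map_mul, map_mul, e.apply_symm_apply, this]
    · intro h y
      have := h (e.symm y)
      apply e.symm.injective
      rw [map_mul, map_mul, this]
  have ec : Subgroup.center N ≃* Subgroup.center N' := Subgroup.centerCongr e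
  refine ⟨Finite.of_equiv N e.toEquiv, H.finV, H.hs, H.ha, H.nt, H.cop, ?_, ?_, ?_, ?_, ?_⟩
  · have := H.cyc
    exact isCyclic_of_surjective ec ec.surjective
  · intro x hx hne v hv
    refine H.semi (e.symm x) ((hc x).1 hx) (fun h => hne ?_) v ?_
    · rw [← e.apply_symm_apply x, h, map_one]
    · rw [← he, e.apply_symm_apply, hv]
  · intro x y
    rw [hc, map_commutatorElement]
    exact H.comm _ _
  · intro x
    rw [hc, map_pow]
    exact H.exp _
  · rw [← Nat.card_congr e.toEquiv, H.card, Nat.card_congr ec.toEquiv]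

theorem Full.congr {s : ℕ} {N N' : Type*} [Group N] [Group N'] (H : Full s N) (e : N ≃* N') : Full s N' := by
  intro x
  obtain ⟨c, hc, h⟩ := H (e.symm x)
  refine ⟨e c, ?_, ?_⟩
  · rw [Subgroup.mem_center_iff] at hc ⊢
    intro y
    apply e.symm.injective
    rw [map_mul, map_mul, e.symm_apply_apply, hc]
  · apply e.symm.injective
    rw [map_pow, map_mul, e.symm_apply_apply, h, map_one]

end Cfsg.Agent.H662.HT
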