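import Cfsg.Agent.H662.HT.EOne
import Cfsg.Agent.SignalizersComponents.ComponentExists

/-!
# Half-transitive linear groups without components (S3540; helper662)
-/

set_option autoImplicit false

open scoped commutatorElement

namespace Cfsg.Agent.H662.HT

open Cfsg.Agent.H828.HT Cfsg.Agent.H960.HT

universe u

/-- a perfect normal subgroup all of whose proper `G`-normal subgroups are central contains a component -/
theorem exists_component {G : Type u} [Group G] [Finite G] {L : Subgroup G} (hL : L.Normal) (hb : L ≠ ⊥)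
    (hp : ⁅L, L⁆ = L)
    (hK : ∀ K : Subgroup G, K.Normal → K ≤ L → K = L ∨ ∀ x ∈ K, ∀ y ∈ L, x * y = y * x) :
    ∃ K : Subgroup G, Cfsg.IsComponent K ∧ K ≤ L := by
  have hns : ¬ Group.IsSolvable L := by
    intro hs
    have h1 : Nontrivial L := (Subgroup.nontrivial_iff_ne_bot L).2 hb
    have h2 := IsSolvable.commutator_lt_top_of_nontrivial L
    apply h2.ne
    apply Subgroup.map_injective L.subtype_injective
    rw [commutator_def, Subgroup.map_commutator, ← MonoidHom.range_eq_map, Subgroup.range_subtype, hp]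
  refine Cfsg.Agent.SignalizersComponents.ComponentExists.exists_isComponent_le hL.isSubnormal hns ?_
  set F : Subgroup G := Cfsg.fittingSubgroup G with hF
  have hFn : F.Normal := Cfsg.Agent.Lib.Cores.fittingSubgroup_normal
  have hFnil : Group.IsNilpotent F := Cfsg.Agent.Lib.Cores.fittingSubgroup_isNilpotent
  have h1 : ⁅F ⊓ L, L⁆ = ⊥ := by
    rcases hK (F ⊓ L) inferInstance inf_le_right with h | h
    · exfalso
      apply hns
      have hle : L ≤ F := by rw [← h]; exact inf_le_left
      have h3 : Group.IsSolvable F := inferInstance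
      exact Group.isSolvable_of_isSolvable_injective (Subgroup.inclusion_injective hle)
    · rw [Subgroup.commutator_eq_bot_iff_le_centralizer]
      intro x hx
      rw [Subgroup.mem_centralizer_iff]
      intro y hy
      exact (h x hx y hy).symm
  have h2 : ⁅⁅F, L⁆, L⁆ = ⊥ := by
    rw [eq_bot_iff, ← h1]
    exact Subgroup.commutator_mono (Subgroup.commutator_le_inf F L) le_rfl
  have h3 : ⁅⁅L, F⁆, L⁆ = ⊥ := by rw [Subgroup.commutator_comm L F]; exact h2
  have h4 : ⁅⁅L, L⁆, F⁆ = ⊥ := Subgroup.commutator_commutator_eq_bot_of_rotate h3 h2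
  rw [hp, Subgroup.commutator_eq_bot_iff_le_centralizer] at h4
  exact h4

variable {p : ℕ} [Fact p.Prime] {V : Type u} [AddCommGroup V] [Module (ZMod p) V] [Finite V]

/-- **E(G) ≠ 1** -/
theorem e1_false [Nontrivial V] {G : Subgroup (V ≃ₗ[ZMod p] V)} {h : ℕ} (hh : Half G h) (h2 : 2 ≤ h)
    (hG : ¬ p ∣ Nat.card G) (hins : ¬ Group.IsSolvable G)
    (hhom : ∀ N ≤ G, (∀ g ∈ G, ∀ n ∈ N, g * n * g⁻¹ ∈ N) → Homog N)
    (hE : ∀ L : Subgroup G, ¬ Cfsg.IsComponent L) : False := by
  have hfin : Finite (V ≃ₗ[ZMod p] V) := finG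
  have hq := qpr_of_hom (irr_of_half hG hh h2) hhom
  obtain ⟨L, hL, hb, hp, hK⟩ := exists_perf hq hG hh h2 hins
  obtain ⟨K, hK, -⟩ := exists_component hL hb hp hK
  exact hE K hK

end Cfsg.Agent.H662.HT
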