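import Cfsg.Agent.H662.HT.Frame
import Cfsg.Agent.H662.HT.Glue
import Cfsg.Agent.H845.HT.Small

/-!
# Restriction of symplectic type groups and frames to invariant submodules (S3540, S3577; helper662)
-/

set_option autoImplicit false

open scoped commutatorElement

namespace Cfsg.Agent.H662.HT

open Cfsg.Agent.H828.HT

universe u

set_option linter.unusedSectionVars false

variable {p : ℕ} [Fact p.Prime] {V : Type u} [AddCommGroup V] [Module (ZMod p) V] [Finite V]

/-- restriction of a symplectic type group to an invariant submodule -/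
theorem Sym.restr {s a : ℕ} {N : Subgroup (V ≃ₗ[ZMod p] V)} (H : Sym s a N V) {W : Submodule (ZMod p) V} (hW : W ≠ ⊥)
    (hinv : ∀ x ∈ N, ∀ w ∈ W, x w ∈ W) :
    ∃ e : N ≃* rs N W, (∀ (x : N) (w : W), (((e x : rs N W) : W ≃ₗ[ZMod p] W) w : V) = (x : V ≃ₗ[ZMod p] V) w) ∧
      Sym s a (rs N W) W := by
  have hfin := H.fin
  have hiff : ∀ x ∈ N, ∀ v : V, v ∈ W ↔ x v ∈ W := by
    intro x hx v
    refine ⟨hinv x hx v, fun h => ?_⟩
    have h1 := hinv x⁻¹ (N.inv_mem hx) _ h
    have h2 : x⁻¹ (x v) = v := x.symm_apply_apply v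
    rwa [h2] at h1
  have hst : ∀ x : N, (x : V ≃ₗ[ZMod p] V) ∈ stb N W := fun x => ⟨x.2, hiff x x.2⟩
  obtain ⟨w₀, hw₀W, hw₀⟩ := Submodule.exists_mem_ne_zero_of_ne_bot hW
  let φ : N →* rs N W :=
    { toFun := fun x => ⟨res N W ⟨x, hst x⟩, ⟨_, rfl⟩⟩
      map_one' := Subtype.ext (LinearEquiv.ext fun _ => rfl)
      map_mul' := fun _ _ => Subtype.ext (LinearEquiv.ext fun _ => rfl) }
  have hφ : ∀ (x : N) (w : W), (((φ x : rs N W) : W ≃ₗ[ZMod p] W) w : V) = (x : V ≃ₗ[ZMod p] V) w := fun _ _ => rfl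
  -- elements trivial on `W` are trivial
  have hfaith : ∀ x : N, (∀ w ∈ W, (x : V ≃ₗ[ZMod p] V) w = w) → x = 1 := by
    intro x hx
    have hc : x ∈ Subgroup.center N := by
      refine Subgroup.mem_center_iff.2 fun y => ?_
      by_contra hne
      have h2 : ⁅x, y⁆ ≠ 1 := fun h => hne (commutatorElement_eq_one_iff_mul_comm.1 h).symm
      refine hw₀ (H.semi _ (H.comm x y) h2 w₀ ?_)
      rw [commutatorElement_def]
      simp only [mul_smul]
      have h5 : y⁻¹ • w₀ ∈ W := hinv _ (y⁻¹).2 _ hw₀W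
      have h3 : x⁻¹ • y⁻¹ • w₀ = y⁻¹ • w₀ := by
        rw [inv_smul_eq_iff]; exact (hx _ h5).symm
      rw [h3, smul_inv_smul]
      exact hx _ hw₀W
    by_contra hne
    exact hw₀ (H.semi x hc hne w₀ (hx w₀ hw₀W))
  have hinj : Function.Injective φ := by
    rw [injective_iff_map_eq_one]
    intro x hx
    refine hfaith x fun w hw => ?_
    rw [← hφ x ⟨w, hw⟩, hx]
    rfl
  have hsurj : Function.Surjective φ := by
    rintro ⟨_, ⟨⟨g, hg⟩, rfl⟩⟩
    exact ⟨⟨g, hg.1⟩, rfl⟩
  let e : N ≃* rs N W := MulEquiv.ofBijective φ ⟨hinj, hsurj⟩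
  let act : DistribMulAction N W :=
    { smul := fun x w => ⟨(x : V ≃ₗ[ZMod p] V) w, hinv x x.2 w w.2⟩
      one_smul := fun w => Subtype.ext rfl
      mul_smul := fun a b w => Subtype.ext rfl
      smul_zero := fun x => Subtype.ext (LinearEquiv.map_zero (x : V ≃ₗ[ZMod p] V))
      smul_add := fun x v w => Subtype.ext (LinearEquiv.map_add (x : V ≃ₗ[ZMod p] V) v w) }
  have hs : Sym s a N W := by
    refine ⟨H.fin, inferInstance, H.hs, H.ha, ⟨⟨w₀, hw₀W⟩, 0, fun h => hw₀ (congrArg Subtype.val h)⟩, ?_, H.cyc, ?_,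
      H.comm, H.exp, H.card⟩
    · intro hd
      apply H.cop
      exact hd.trans ⟨_, Submodule.card_eq_card_quotient_mul_card W⟩
    · intro x hx hne v hv
      exact Subtype.ext (H.semi x hx hne v (congrArg Subtype.val hv))
  exact ⟨e, hφ, hs.congr e fun x w => Subtype.ext rfl⟩

section frame

variable {t : Fin 5 → (V ≃ₗ[ZMod p] V)}

theorem inv_of_sq {g : V ≃ₗ[ZMod p] V} (hg : g * g = 1) {W : Submodule (ZMod p) V} (hinv : ∀ w ∈ W, g w ∈ W) :
    ∀ v, v ∈ W ↔ g v ∈ W := by
  intro v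
  refine ⟨hinv v, fun h => ?_⟩
  have h1 := hinv _ h
  have h2 : g (g v) = v := congrArg (fun f : V ≃ₗ[ZMod p] V => f v) hg
  rwa [h2] at h1

/-- the restricted frame -/
def rfr (t : Fin 5 → (V ≃ₗ[ZMod p] V)) (W : Submodule (ZMod p) V) (h : ∀ k, ∀ v, v ∈ W ↔ t k v ∈ W) :
    Fin 5 → (W ≃ₗ[ZMod p] W) := fun k => resEquiv W (t k) (h k)

theorem rfr_apply {W : Submodule (ZMod p) V} (h : ∀ k, ∀ v, v ∈ W ↔ t k v ∈ W) (k : Fin 5) (w : W) :
    ((rfr t W h k w : W) : V) = t k w := rfl

theorem Frame5.restr (ht : Frame5 t) {W : Submodule (ZMod p) V} (h : ∀ k, ∀ v, v ∈ W ↔ t k v ∈ W) :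
    Frame5 (rfr t W h) := by
  refine ⟨fun k => ?_, fun j k hjk v => ?_, ?_⟩
  · apply LinearEquiv.ext
    intro w
    apply Subtype.ext
    exact congrArg (fun f : V ≃ₗ[ZMod p] V => f w) (ht.sq k)
  · apply Subtype.ext
    exact ht.anti j k hjk v
  · rcases ht.prod with h1 | h1
    · left; intro v; apply Subtype.ext; exact h1 v
    · right; intro v; apply Subtype.ext; exact h1 v

/-- invariant submodules have order at least `p ^ 4` -/
theorem Frame5.card_ge (hp : 3 ≤ p) (ht : Frame5 t) {W : Submodule (ZMod p) V} (h : ∀ k, ∀ v, v ∈ W ↔ t k v ∈ W)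
    (hW : W ≠ ⊥) : p ^ 4 ≤ Nat.card W := by
  have : Nontrivial W := (Submodule.nontrivial_iff_ne_bot).2 hW
  have h1 := ht.restr h
  obtain ⟨U, hU, -⟩ := Cfsg.Agent.H845.HT.exists_small_of hp h1.sq h1.anti h1.prod
  rw [← hU]
  exact Nat.card_le_card_of_injective (fun u : U => (u : W)) Subtype.val_injective

/-- a frame has vectors fixed by `t k` -/
theorem Frame5.exists_fix (hp : 3 ≤ p) (ht : Frame5 t) [Nontrivial V] (k : Fin 5) : ∃ v : V, v ≠ 0 ∧ t k v = v := by
  by_contra hcon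
  push Not at hcon
  have h1 : ∀ v : V, t k v = -v := by
    intro v
    by_contra hne
    refine hcon (v + t k v) (fun h => hne (eq_neg_of_add_eq_zero_right h)) ?_
    have h2 : t k (t k v) = v := congrArg (fun f : V ≃ₗ[ZMod p] V => f v) (ht.sq k)
    rw [map_add, h2, add_comm]
  obtain ⟨v, hv⟩ := exists_ne (0 : V)
  obtain ⟨j, hj⟩ : ∃ j : Fin 5, j ≠ k := exists_ne k
  have h3 := ht.anti j k hj v
  change t j (t k v) = -(t k (t j v)) at h3
  rw [h1, h1, map_neg, neg_neg] at h3
  -- `2 t_j v = 0`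
  have h4 : (2 : ZMod p) • (t j v) = 0 := by
    have h5 : t j v + t j v = 0 := by
      nth_rewrite 1 [← h3]
      exact neg_add_cancel _
    rw [two_smul, h5]
  have h5 : (2 : ZMod p) ≠ 0 := by
    have : ((2 : ℕ) : ZMod p) ≠ 0 := by
      rw [Ne, ZMod.natCast_eq_zero_iff]
      intro hd
      have := Nat.le_of_dvd (by norm_num) hd
      omega
    exact_mod_cast this
  rcases smul_eq_zero.1 h4 with h6 | h6
  · exact h5 h6
  · exact hv (by rw [← (t j).symm_apply_apply v, h6, map_zero])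

end frame

section cover

/-- every vector is fixed by an involution -/
theorem cover_inv (hp : 3 ≤ p) {P : Subgroup (V ≃ₗ[ZMod p] V)} {h : ℕ} (hh : Half P h) (heven : 2 ∣ h) {F B : ℕ}
    (hF : ∀ y ∈ Inv P, Nat.card (fx y) ≤ F) (hB : Nat.card (Inv P) ≤ B) : Nat.card V - 1 ≤ B * (F - 1) := by
  classical
  have hfi : Finite (Inv P) := Subtype.finite
  have : Fintype (Inv P) := Fintype.ofFinite _
  have hft : Fintype V := Fintype.ofFinite V
  let T : Finset (V ≃ₗ[ZMod p] V) := (Inv P).toFinset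
  have hsub : (Finset.univ.erase (0 : V)) ⊆ T.biUnion (fun y => (Finset.univ.filter fun v : V => y v = v).erase 0) := by
    intro v hv
    have hv0 : v ≠ 0 := Finset.ne_of_mem_erase hv
    have hst : 2 ∣ Nat.card (MulAction.stabilizer P v) := by rw [hh v hv0]; exact heven
    have : Fact (Nat.Prime 2) := ⟨Nat.prime_two⟩
    obtain ⟨y, hy⟩ := exists_prime_orderOf_dvd_card' 2 hst
    have hy2 : y * y = 1 := by
      have := pow_orderOf_eq_one y
      rwa [hy, sq] at this
    have hy1 : y ≠ 1 := by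
      rintro rfl
      rw [orderOf_one] at hy
      omega
    have hyv : ((y : P) : V ≃ₗ[ZMod p] V) v = v := y.2
    rw [Finset.mem_biUnion]
    refine ⟨((y : P) : V ≃ₗ[ZMod p] V), ?_, ?_⟩
    · rw [Set.mem_toFinset]
      refine ⟨(y : P).2, ?_, ?_, v, ?_⟩
      · exact congrArg (fun z : MulAction.stabilizer P v => ((z : P) : V ≃ₗ[ZMod p] V)) hy2
      · intro h1
        exact hy1 (Subtype.ext (Subtype.ext h1))
      · rw [hyv]
        intro h1
        have h4 : (2 : ZMod p) • v = 0 := by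
          rw [two_smul]
          nth_rewrite 1 [h1]
          exact neg_add_cancel _
        have h5 : (2 : ZMod p) ≠ 0 := by
          have : ((2 : ℕ) : ZMod p) ≠ 0 := by
            rw [Ne, ZMod.natCast_eq_zero_iff]
            intro hd
            have := Nat.le_of_dvd (by norm_num) hd
            omega
          exact_mod_cast this
        rcases smul_eq_zero.1 h4 with h6 | h6
        · exact h5 h6
        · exact hv0 h6
    · rw [Finset.mem_erase, Finset.mem_filter]
      exact ⟨hv0, Finset.mem_univ _, hyv⟩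
  have h1 := (Finset.card_le_card hsub).trans Finset.card_biUnion_le
  have h2 : (Finset.univ.erase (0 : V)).card = Nat.card V - 1 := by
    rw [Finset.card_erase_of_mem (Finset.mem_univ _), Finset.card_univ, Nat.card_eq_fintype_card]
  have h3 : ∑ y ∈ T, ((Finset.univ.filter fun v : V => y v = v).erase 0).card ≤ ∑ _y ∈ T, (F - 1) := by
    refine Finset.sum_le_sum fun y hy => ?_
    have hyI : y ∈ Inv P := Set.mem_toFinset.1 hy
    rw [Finset.card_erase_of_mem (by rw [Finset.mem_filter]; exact ⟨Finset.mem_univ _, map_zero y⟩)]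
    have h4 : (Finset.univ.filter fun v : V => y v = v).card = Nat.card (fx y) := by
      rw [Nat.card_eq_fintype_card, Fintype.card_subtype]
      congr 1
      ext v
      simp
    have := hF y hyI
    omega
  rw [Finset.sum_const, smul_eq_mul] at h3
  have h5 : T.card = Nat.card (Inv P) := by
    rw [Set.toFinset_card, Nat.card_eq_fintype_card]
  rw [h5] at h3
  rw [h2] at h1
  calc Nat.card V - 1 ≤ _ := h1
    _ ≤ Nat.card (Inv P) * (F - 1) := h3
    _ ≤ B * (F - 1) := Nat.mul_le_mul_right _ hB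

end cover

end Cfsg.Agent.H662.HT
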