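import Cfsg.Agent.H337.HT.Cand
import Cfsg.Agent.H267.HT.MinField
import Cfsg.Agent.H19.HT.Gen

/-!
# S3512: quasisimple irreducible normal subgroups, no condition on `p` and `|G|` (helper662)

`QW p K V G L h` is `H337.HT.QS` without `¬ p ∣ |G|`; the numerical conditions (`cand`), the core (`exists_core`, after helper267)
and the basic facts (after helper337) in this generality.
-/

set_option autoImplicit false
set_option linter.unusedSectionVars false

universe u w

namespace Cfsg.Agent.H662.HT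

open Cfsg.Agent.H828.HT
open Cfsg.Agent.H337.HT (Cand Dead)
open Cfsg.Agent.H337.HT.QS (qt eq_one_of_qt sc sc_apply qt_mk)

/-- the setting of the quasisimple rows -/
structure QW (p : ℕ) [Fact p.Prime] (K : Type w) [Field K] (V : Type u) [AddCommGroup V] [Module (ZMod p) V]
    [Module K V] (G L : Subgroup (V ≃ₗ[ZMod p] V)) (h : ℕ) : Prop where
  half : Half G h
  two_le : 2 ≤ h
  le : L ≤ G
  nrm : ∀ g ∈ G, ∀ l ∈ L, g * l * g⁻¹ ∈ L
  perf : commutator L = ⊤
  simple : IsSimpleGroup (L ⧸ Subgroup.center L)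
  nonab : ∃ a ∈ L, ∃ b ∈ L, a * b ≠ b * a
  lin : ∀ l ∈ L, ∀ (c : K) (v : V), l (c • v) = c • l v
  endo : ∀ f : V →ₗ[ZMod p] V, (∀ l ∈ L, ∀ v, f (l v) = l (f v)) → ∃ c : K, ∀ v, f v = c • v
  irr : ∀ W : Submodule (ZMod p) V, (∀ l ∈ L, ∀ v ∈ W, l v ∈ W) → W = ⊥ ∨ W = ⊤

section half

variable {p : ℕ} [Fact p.Prime] {V : Type u} [AddCommGroup V] [Module (ZMod p) V] [Finite V]
  {G : Subgroup (V ≃ₗ[ZMod p] V)} {h : ℕ}

/-- the sharp form of `H828.HT.card_le` -/
theorem half_le' (hh : Half G h) (h0 : 0 < h) {m : ℕ} (hm : m * h = Nat.card G) :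
    (h - 1) * Nat.card V ≤ h * m ^ 2 := by
  classical
  have h1 := sum_fx_half hh
  rw [← Finset.add_sum_erase _ _ (Finset.mem_univ (1 : G))] at h1
  have e1 : Nat.card (fx ((1 : G) : V ≃ₗ[ZMod p] V)) = Nat.card V := by
    rw [Subgroup.coe_one, fx_one]
    exact Nat.card_congr Submodule.topEquiv.toEquiv
  rw [e1] at h1
  have h2 : ∑ g ∈ Finset.univ.erase (1 : G), Nat.card (fx (g : V ≃ₗ[ZMod p] V)) ≤
      ∑ _g ∈ Finset.univ.erase (1 : G), (m - 1) := by
    refine Finset.sum_le_sum fun g hg => ?_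
    have := Cfsg.Agent.H19.HT.fx_lt hh h0 hm (Finset.ne_of_mem_erase hg)
    omega
  rw [Finset.sum_const, Finset.card_erase_of_mem (Finset.mem_univ _), Finset.card_univ,
    ← Nat.card_eq_fintype_card, smul_eq_mul, ← hm] at h2
  rw [← hm] at h1
  have hGpos : 0 < Nat.card G := Nat.card_pos
  rw [← hm] at hGpos
  obtain ⟨k, rfl⟩ : ∃ k, h = k + 1 := ⟨h - 1, by omega⟩
  obtain ⟨j, rfl⟩ : ∃ j, m = j + 1 := ⟨m - 1, by
    have : 0 < m := by
      rcases Nat.eq_zero_or_pos m with rfl | hm0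
      · simp at hGpos
      · exact hm0
    omega⟩
  simp only [Nat.add_sub_cancel] at h2 ⊢
  set N := Nat.card V
  set s := ∑ g ∈ Finset.univ.erase (1 : G), Nat.card (fx (g : V ≃ₗ[ZMod p] V))
  have h3 : (j + 1) * (k + 1) - 1 = j * k + j + k := by
    have : (j + 1) * (k + 1) = j * k + j + k + 1 := by ring
    omega
  rw [h3] at h2
  nlinarith

end half

variable {p : ℕ} [Fact p.Prime] {K : Type w} [Field K] {V : Type u} [AddCommGroup V] [Module (ZMod p) V] [Finite V]
    [Module K V] {G L : Subgroup (V ≃ₗ[ZMod p] V)} {h : ℕ}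

namespace QW

theorem exists_ne (H : QW p K V G L h) : ∃ v : V, v ≠ 0 := by
  obtain ⟨a, -, b, -, hab⟩ := H.nonab
  by_contra hcon
  push Not at hcon
  exact hab (LinearEquiv.ext fun v => by rw [hcon ((a * b) v), hcon ((b * a) v)])

theorem finiteK (H : QW p K V G L h) : Finite K := by
  obtain ⟨v, hv⟩ := H.exists_ne
  exact Finite.of_injective (fun c : K => c • v) fun a b hab => by
    by_contra hne
    have h1 : (a - b) • v = 0 := by rw [sub_smul, sub_eq_zero]; exact hab
    rcases smul_eq_zero.1 h1 with h2 | h2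
    · exact hne (sub_eq_zero.1 h2)
    · exact hv h2

theorem finiteDim (_ : QW p K V G L h) : Module.Finite K V := Module.Finite.of_finite

theorem card_V (_ : QW p K V G L h) : Nat.card V = Nat.card K ^ Module.finrank K V :=
  Module.natCard_eq_pow_finrank

theorem finrank_pos (H : QW p K V G L h) : 0 < Module.finrank K V := by
  have := H.finiteDim
  obtain ⟨v, hv⟩ := H.exists_ne
  have : Nontrivial V := ⟨v, 0, hv⟩
  exact Module.finrank_pos

theorem exists_card (H : QW p K V G L h) : ∃ k, Nat.card K = p ^ k ∧ 0 < k := by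
  have hK := H.finiteK
  have h1 : Nat.card K ∣ p ^ Module.finrank (ZMod p) V := by
    rw [← card_eq_pow (p := p) V, H.card_V]
    exact dvd_pow_self _ H.finrank_pos.ne'
  obtain ⟨k, -, hk⟩ := (Nat.dvd_prime_pow Fact.out).1 h1
  refine ⟨k, hk, Nat.pos_of_ne_zero ?_⟩
  rintro rfl
  have := Finite.one_lt_card (α := K)
  rw [hk, pow_zero] at this
  omega

theorem card_quot_dvd_L (_ : QW p K V G L h) : Nat.card (L ⧸ Subgroup.center L) ∣ Nat.card L :=
  Subgroup.card_quotient_dvd_card _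

theorem card_L_dvd (H : QW p K V G L h) : Nat.card L ∣ Nat.card G := Subgroup.card_dvd_of_le H.le

theorem coprime (H : QW p K V G L h) (hp : ¬ p ∣ Nat.card L) : (Nat.card K).Coprime (Nat.card (L ⧸ Subgroup.center L)) := by
  obtain ⟨k, hk, -⟩ := H.exists_card
  rw [hk]
  refine Nat.Coprime.pow_left k ((Nat.Prime.coprime_iff_not_dvd Fact.out).2 fun hd => hp ?_)
  exact hd.trans H.card_quot_dvd_L

theorem two_le_card (H : QW p K V G L h) : 2 ≤ Nat.card K := by
  have := H.finiteK
  exact Finite.one_lt_card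

/-! ### The action on `L / Z(L)` -/

theorem normal (H : QW p K V G L h) : (L.subgroupOf G).Normal :=
  ⟨fun n hn g => H.nrm g g.2 n hn⟩

/-- conjugation of `L` by an element of `G` -/
def cj (H : QW p K V G L h) : G →* MulAut L where
  toFun g :=
    { toFun := fun l => ⟨g * l * g⁻¹, H.nrm g g.2 l l.2⟩
      invFun := fun l => ⟨(g : V ≃ₗ[ZMod p] V)⁻¹ * l * g, by
        have := H.nrm _ (G.inv_mem g.2) l l.2
        rwa [inv_inv] at this⟩
      left_inv := fun l => Subtype.ext (by simp [mul_assoc])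
      right_inv := fun l => Subtype.ext (by simp [mul_assoc])
      map_mul' := fun a b => Subtype.ext (by simp [mul_assoc]) }
  map_one' := by ext l : 2; simp
  map_mul' a b := by ext l : 2; simp [mul_assoc]

@[simp] theorem cj_apply (H : QW p K V G L h) (g : G) (l : L) :
    ((H.cj g l : L) : V ≃ₗ[ZMod p] V) = g * l * (g : V ≃ₗ[ZMod p] V)⁻¹ := rfl

/-- elements of `G` acting trivially on `L / Z(L)` are scalars -/
theorem scalar_of_qt (H : QW p K V G L h) {g : G} (hg : qt (H.cj g) = 1) : ∃ c : K, ∀ v, (g : V ≃ₗ[ZMod p] V) v = c • v := by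
  have h1 := eq_one_of_qt H.perf hg
  refine H.endo (g : V ≃ₗ[ZMod p] V) fun l hl v => ?_
  have h2 : H.cj g ⟨l, hl⟩ = ⟨l, hl⟩ := by rw [h1]; rfl
  have h3 : (g : V ≃ₗ[ZMod p] V) * l * (g : V ≃ₗ[ZMod p] V)⁻¹ = l := congrArg Subtype.val h2
  have h4 : (g : V ≃ₗ[ZMod p] V) * l = l * g := by rw [← mul_inv_eq_iff_eq_mul]; exact h3
  exact LinearEquiv.congr_fun h4 v

theorem card_G_dvd (H : QW p K V G L h) :
    Nat.card G ∣ (Nat.card K - 1) * Nat.card (MulAut (L ⧸ Subgroup.center L)) := by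
  have hK := H.finiteK
  set f : G →* MulAut (L ⧸ Subgroup.center L) := qt.comp H.cj with hf
  have h1 : Nat.card G = Nat.card f.ker * Nat.card f.range := by
    rw [← Subgroup.index_ker f, mul_comm, Subgroup.index_mul_card]
  rw [h1]
  refine Nat.mul_dvd_mul ?_ (Subgroup.card_subgroup_dvd_card _)
  have h2 : Nat.card f.ker = Nat.card (f.ker.map G.subtype) :=
    Nat.card_congr (f.ker.equivMapOfInjective _ G.subtype_injective).toEquiv
  have h3 : f.ker.map G.subtype ≤ (sc (p := p) (K := K) (V := V)).range := by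
    rintro _ ⟨g, hg, rfl⟩
    obtain ⟨c, hc⟩ := H.scalar_of_qt (g := g) hg
    have hc0 : c ≠ 0 := by
      rintro rfl
      obtain ⟨v, hv⟩ := H.exists_ne
      apply hv
      have h4 := hc v
      rw [zero_smul] at h4
      exact (g : V ≃ₗ[ZMod p] V).map_eq_zero_iff.1 h4
    exact ⟨Units.mk0 c hc0, LinearEquiv.ext fun v => by rw [sc_apply]; exact (hc v).symm⟩
  have h4 : Nat.card (sc (p := p) (K := K) (V := V)).range ∣ Nat.card Kˣ := Subgroup.card_range_dvd _
  rw [h2, ← Nat.card_units]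
  exact (Subgroup.card_dvd_of_le h3).trans h4

/-- **The numerical conditions.** -/
theorem cand (H : QW p K V G L h) {R : ℕ} (hR : R ∣ h) :
    Cand R (Nat.card (L ⧸ Subgroup.center L)) (Nat.card (MulAut (L ⧸ Subgroup.center L)))
      (Module.finrank K V) (Nat.card K) := by
  obtain ⟨m, hm, -⟩ := exists_m H.half H.exists_ne
  have h0 : 0 < h := by have := H.two_le; omega
  refine ⟨m, h, hR, H.two_le, ?_, ?_, ?_, ?_⟩
  · rw [← H.card_V]
    exact dvd_card_sub_one H.half h0 hm
  · rw [hm]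
    exact H.card_quot_dvd_L.trans H.card_L_dvd
  · rw [hm]
    exact H.card_G_dvd
  · rw [← H.card_V]
    exact half_le' H.half h0 hm

/-- a `Dead` simple quotient does not occur -/
theorem not_dead (H : QW p K V G L h) (hp : ¬ p ∣ Nat.card L) (hd : Dead (Module.finrank K V) (L ⧸ Subgroup.center L)) : False :=
  hd _ H.two_le_card (H.coprime hp) (H.cand (one_dvd _))

theorem charP (H : QW p K V G L h) : CharP K p := by
  obtain ⟨v, hv⟩ := H.exists_ne
  have h1 : (p : K) = 0 := by
    have h2 : (p : ℕ) • v = 0 := by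
      rw [← Nat.cast_smul_eq_nsmul (ZMod p), ZMod.natCast_self, zero_smul]
    rw [← Nat.cast_smul_eq_nsmul K] at h2
    exact (smul_eq_zero.1 h2).resolve_right hv
  obtain ⟨r, hr⟩ := CharP.exists K
  have h3 : r ∣ p := (CharP.cast_eq_zero_iff K r p).1 h1
  rcases (Nat.dvd_prime (Fact.out : p.Prime)).1 h3 with rfl | rfl
  · exact absurd rfl (CharP.char_ne_one K 1)
  · exact hr

theorem charP_subfield (H : QW p K V G L h) (F : Subfield K) : CharP F p := by
  have := H.charP
  exact (algebraMap F K).charP (algebraMap F K).injective p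

/-- degree `1` does not occur -/
theorem finrank_ne_one (H : QW p K V G L h) : Module.finrank K V ≠ 1 := by
  intro h1
  have := H.finiteDim
  obtain ⟨a, ha, b, hb, hab⟩ := H.nonab
  obtain ⟨v, hv, hs⟩ := finrank_eq_one_iff'.1 h1
  apply hab
  obtain ⟨ca, hca⟩ := hs (a v)
  obtain ⟨cb, hcb⟩ := hs (b v)
  ext w
  obtain ⟨c, rfl⟩ := hs w
  change a (b (c • v)) = b (a (c • v))
  rw [H.lin b hb, H.lin a ha, H.lin a ha, H.lin b hb, ← hca, ← hcb, H.lin a ha, H.lin b hb, ← hca, ← hcb,
    smul_smul, smul_smul, smul_smul, smul_smul, mul_right_comm]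

end QW

section core

open Cfsg Cfsg.Geo Matrix Cfsg.Agent.H915.LD Cfsg.Agent.H267.HT

/-- the elements of `L` as `K`-linear maps -/
def toEnd (H : QW p K V G L h) : L →* Module.End K V where
  toFun l :=
    { toFun := fun v => (l : V ≃ₗ[ZMod p] V) v
      map_add' := fun x y => map_add _ x y
      map_smul' := fun c v => H.lin l l.2 c v }
  map_one' := rfl
  map_mul' _ _ := rfl

theorem toEnd_apply (H : QW p K V G L h) (l : L) (v : V) : toEnd H l v = (l : V ≃ₗ[ZMod p] V) v := rfl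

/-- the matrices of the elements of `L` in a `K`-basis -/
noncomputable def rho (H : QW p K V G L h) {n : ℕ} (b : Module.Basis (Fin n) K V) : L →* GL (Fin n) K :=
  ((LinearMap.toMatrixAlgEquiv b).toAlgHom.toRingHom.toMonoidHom.comp (toEnd H)).toHomUnits

theorem rho_coe (H : QW p K V G L h) {n : ℕ} (b : Module.Basis (Fin n) K V) (l : L) :
    ((rho H b l : GL (Fin n) K) : Matrix (Fin n) (Fin n) K) = LinearMap.toMatrix b b (toEnd H l) := rfl

theorem rho_mulVec (H : QW p K V G L h) {n : ℕ} (b : Module.Basis (Fin n) K V) (l : L) (v : V) :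
    ((rho H b l : GL (Fin n) K) : Matrix (Fin n) (Fin n) K) *ᵥ (b.repr v) = b.repr ((l : V ≃ₗ[ZMod p] V) v) := by
  rw [rho_coe, LinearMap.toMatrix_mulVec_repr, toEnd_apply]

theorem rho_injective (H : QW p K V G L h) {n : ℕ} (b : Module.Basis (Fin n) K V) : Function.Injective (rho H b) := by
  intro l l' hl
  apply Subtype.ext
  apply LinearEquiv.ext
  intro v
  apply b.repr.injective
  apply DFunLike.coe_injective
  rw [← rho_mulVec H b l v, ← rho_mulVec H b l' v, hl]

/-- absolute irreducibility -/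
theorem rho_absIrr (H : QW p K V G L h) {n : ℕ} (b : Module.Basis (Fin n) K V) :
    ActsAbsolutelyIrreducibly (matrixSet (rho H b).range) := by
  classical
  refine ⟨fun W hW => ?_, fun M hM => ?_⟩
  · let W' : Submodule K V := W.comap (b.equivFun : V →ₗ[K] (Fin n → K))
    have hmem : ∀ v, v ∈ W' ↔ (⇑(b.repr v) : Fin n → K) ∈ W := fun v => Iff.rfl
    let W'' : Submodule (ZMod p) V := AddSubgroup.toZModSubmodule p W'.toAddSubgroup
    have hmem' : ∀ v, v ∈ W'' ↔ v ∈ W' := fun v => Iff.rfl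
    have hst : ∀ l ∈ L, ∀ v ∈ W'', l v ∈ W'' := by
      intro l hl v hv
      rw [hmem', hmem] at hv ⊢
      rw [← rho_mulVec H b ⟨l, hl⟩ v, ← Matrix.toLin'_apply]
      exact hW _ ⟨_, ⟨⟨l, hl⟩, rfl⟩, rfl⟩ (Submodule.mem_map_of_mem hv)
    rcases H.irr W'' hst with h1 | h1
    · left
      rw [Submodule.eq_bot_iff]
      intro x hx
      have h2 : b.equivFun.symm x ∈ W'' := by
        rw [hmem', hmem]
        show b.equivFun (b.equivFun.symm x) ∈ W
        rwa [LinearEquiv.apply_symm_apply]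
      rw [h1, Submodule.mem_bot] at h2
      rw [← b.equivFun.apply_symm_apply x, h2, map_zero]
    · right
      rw [Submodule.eq_top_iff']
      intro x
      have h2 : b.equivFun.symm x ∈ W'' := by rw [h1]; trivial
      rw [hmem', hmem] at h2
      have h3 : b.equivFun (b.equivFun.symm x) ∈ W := h2
      rwa [LinearEquiv.apply_symm_apply] at h3
  · let f : V →ₗ[K] V := Matrix.toLin b b M
    have hf : ∀ v, (⇑(b.repr (f v)) : Fin n → K) = M *ᵥ (b.repr v) := by
      intro v
      rw [← LinearMap.toMatrix_mulVec_repr b b f v, LinearMap.toMatrix_toLin]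
    let f' : V →ₗ[ZMod p] V := f.toAddMonoidHom.toZModLinearMap p
    have hf' : ∀ v, f' v = f v := fun v => rfl
    obtain ⟨c, hc⟩ := H.endo f' (by
      intro l hl v
      rw [hf', hf']
      apply b.repr.injective
      apply DFunLike.coe_injective
      show (⇑(b.repr (f (l v))) : Fin n → K) = ⇑(b.repr (l (f v)))
      rw [hf]
      have h1 := rho_mulVec H b ⟨l, hl⟩ v
      have h2 := rho_mulVec H b ⟨l, hl⟩ (f v)
      have h3 : (⇑(b.repr (l v)) : Fin n → K) = ((rho H b ⟨l, hl⟩ : GL (Fin n) K) : Matrix (Fin n) (Fin n) K) *ᵥ (b.repr v) :=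
        h1.symm
      have h4 : (⇑(b.repr (l (f v))) : Fin n → K) =
          ((rho H b ⟨l, hl⟩ : GL (Fin n) K) : Matrix (Fin n) (Fin n) K) *ᵥ (b.repr (f v)) := h2.symm
      rw [h3, h4, hf, Matrix.mulVec_mulVec, Matrix.mulVec_mulVec, hM _ ⟨_, ⟨⟨l, hl⟩, rfl⟩, rfl⟩])
    refine ⟨c, ?_⟩
    have h5 : f = c • (1 : V →ₗ[K] V) := by
      apply LinearMap.ext
      intro v
      exact hc v
    have h6 : LinearMap.toMatrix b b f = M := LinearMap.toMatrix_toLin b b M
    rw [← h6, h5, map_smul]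
    congr 1
    exact LinearMap.toMatrix_one b

/-- **T1.** -/
theorem exists_core (H : QW p K V G L h) {n : ℕ} (hn : Module.finrank K V = n) :
    ∃ (F : Subfield K) (P : Subgroup (GL (Fin n) F)) (e : P ≃* L) (b : Module.Basis (Fin n) K V),
      Core P ∧ Nonempty (Soc P ≃* L ⧸ Subgroup.center L) ∧
      ∀ (x : P) (v : V), (⇑(b.repr ((e x : V ≃ₗ[ZMod p] V) v)) : Fin n → K) =
        ((inc F (x : GL (Fin n) F) : GL (Fin n) K) : Matrix (Fin n) (Fin n) K) *ᵥ (b.repr v) := by
  classical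
  have hKf : Finite K := H.finiteK
  have hVK : Module.Finite K V := Module.Finite.of_finite
  obtain ⟨v, hv⟩ := H.exists_ne
  have hnt : Nontrivial V := ⟨⟨v, 0, hv⟩⟩
  have hn0 : NeZero n := ⟨by
    rw [← hn]
    exact (Module.finrank_pos (R := K) (M := V)).ne'⟩
  let b := Module.finBasisOfFinrankEq K V hn
  obtain ⟨F, σ, B, hσ, hC, hS, hB⟩ := exists_core_of_rep H.perf H.simple (by
    obtain ⟨a, ha, c, hc, hac⟩ := H.nonab
    exact ⟨⟨a, ha⟩, ⟨c, hc⟩, fun h1 => hac (congrArg Subtype.val h1)⟩) (rho_injective H b) (rho_absIrr H b)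
  let e : L ≃* σ.range := MonoidHom.ofInjective hσ
  let Be : (Fin n → K) ≃ₗ[K] (Fin n → K) := Matrix.toLin'OfInv (M' := (B : Matrix (Fin n) (Fin n) K))
    (M := ((B⁻¹ : GL (Fin n) K) : Matrix (Fin n) (Fin n) K))
    (by rw [← Units.val_mul, inv_mul_cancel, Units.val_one]) (by rw [← Units.val_mul, mul_inv_cancel, Units.val_one])
  let b' : Module.Basis (Fin n) K V := Module.Basis.ofEquivFun (b.equivFun.trans Be)
  have hb' : ∀ v : V, (⇑(b'.repr v) : Fin n → K) = (B : Matrix (Fin n) (Fin n) K) *ᵥ (b.repr v) := by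
    intro v
    have h1 : b'.equivFun v = Be (b.equivFun v) := by
      show (Module.Basis.ofEquivFun (b.equivFun.trans Be)).equivFun v = _
      rw [Module.Basis.equivFun_ofEquivFun]
      rfl
    have h2 : Be (b.equivFun v) = (B : Matrix (Fin n) (Fin n) K) *ᵥ (b.equivFun v) :=
      Matrix.toLin'_apply (B : Matrix (Fin n) (Fin n) K) (b.equivFun v)
    exact h1.trans h2
  refine ⟨F, σ.range, e.symm, b', hC, hS, fun x v => ?_⟩
  obtain ⟨l, rfl⟩ := e.surjective x
  have h1 : ((e l : σ.range) : GL (Fin n) F) = σ l := rfl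
  rw [e.symm_apply_apply, h1, hB, hb', hb', ← rho_mulVec H b l v, Units.val_mul, Units.val_mul,
    Matrix.mulVec_mulVec, Matrix.mulVec_mulVec]
  congr 1
  rw [Matrix.mul_assoc, Matrix.mul_assoc, ← Units.val_mul B⁻¹ B, inv_mul_cancel, Units.val_one, Matrix.mul_one]

end core

end Cfsg.Agent.H662.HT
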