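import Cfsg.Agent.H662.HT.Leaf
import Cfsg.Agent.H137.HT.BetaOne
import Cfsg.Agent.H450.HT.FullOdd
import Cfsg.Agent.H451.HT.FullTwo
import Cfsg.Agent.H183.HT.Arith
import Cfsg.Agent.H19.HT.Gen
import Cfsg.Agent.H662.HT.Restr

/-!
# Normal subgroups of symplectic type in half-transitive linear groups: full type (S3540, S3577; helper662)
-/

set_option autoImplicit false

open scoped commutatorElement
open Finset

namespace Cfsg.Agent.H662.HT

open Cfsg.Agent.H828.HT
open Cfsg.Agent.H662.HT.Leaf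

universe u

set_option linter.unusedSectionVars false

variable {p : ℕ} [Fact p.Prime] {V : Type u} [AddCommGroup V] [Module (ZMod p) V] [Finite V]

/-- a base of a prime power -/
theorem isPrimePow_of_pow {Q n k : ℕ} (hp : p.Prime) (hk : 0 < k) (hQ : 1 < Q) (h : p ^ n = Q ^ k) : IsPrimePow Q := by
  obtain ⟨q, hq, hqQ⟩ := Nat.exists_prime_and_dvd (n := Q) (by omega)
  have h1 : q ∣ p ^ n := by rw [h]; exact dvd_pow hqQ hk.ne'
  have h2 : Q ∣ p ^ n := by rw [h]; exact dvd_pow_self Q hk.ne'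
  obtain ⟨j, -, hj⟩ := (Nat.dvd_prime_pow hp).1 h2
  rw [isPrimePow_nat_iff]
  refine ⟨p, j, hp, ?_, hj.symm⟩
  rcases Nat.eq_zero_or_pos j with h0 | h0
  · subst h0; rw [hj] at hQ; simp at hQ
  · exact h0

/-- the numerical restrictions -/
theorem full_num' {G N : Subgroup (V ≃ₗ[ZMod p] V)} (hN : N ≤ G) (hn : ∀ g ∈ G, ∀ x ∈ N, g * x * g⁻¹ ∈ N)
    {h : ℕ} (hh : Half G h) (h2 : 2 ≤ h) {s a : ℕ} (H : Sym s a N V) (hF : Full s N)
    (big : 3 ≤ s ∨ 2 ≤ a) : s = 2 ∧ a = 2 ∧ Nat.card V = 17 ^ 4 ∧ Nat.card (Subgroup.center N) = 4 ∧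
      ∃ m, m * h = Nat.card G ∧ (m = 320 ∨ m = 960) := by
  obtain ⟨Q, hQ, hV, hz, hX, hfree⟩ := numbers_full H hF big
  have := H.nt
  obtain ⟨v, hv⟩ := exists_ne (0 : V)
  obtain ⟨m, hm, hm0⟩ := exists_m hh ⟨v, hv⟩
  have h0 : 0 < h := by omega
  have h1 : m ∣ s ^ a * (∏ i ∈ range a, (s ^ (i + 1) + 1)) * (Q - 1) := by
    rw [← hX]; exact dvd_spec hn hh h0 hm s a
  have h3 : Nat.card (Subgroup.center N) * s ^ (2 * a) ∣ m := by
    rw [← H.card]; exact dvd_of_free hN hn hh h0 hm hfree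
  have h4 : m ∣ Q ^ (s ^ a) - 1 := by
    rw [← hV]; exact dvd_card_sub_one hh h0 hm
  have h5 : Q ^ (s ^ a) ≤ 2 * m ^ 2 := by
    rw [← hV]; exact Cfsg.Agent.H19.HT.card_le hh h2 hm
  have hs := H.hs
  -- `s` divides the order of the centre
  have hsz : s ∣ Nat.card (Subgroup.center N) := by
    have : Fact s.Prime := ⟨hs⟩
    have := H.fin
    by_contra hns
    have hab : ∀ x y : N, x * y = y * x := by
      intro x y
      rw [← commutatorElement_eq_one_iff_mul_comm]
      have hpw := H.comm_pow x y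
      by_contra hne
      have hord : orderOf ⁅x, y⁆ = s := orderOf_eq_prime hpw hne
      exact hns (hord ▸ Subgroup.orderOf_dvd_natCard _ (H.comm x y))
    have htop : Subgroup.center N = ⊤ := by
      rw [eq_top_iff]
      intro x _
      exact Subgroup.mem_center_iff.2 fun y => hab y x
    have hc := H.card
    rw [htop, Subgroup.card_top] at hc
    have hpos : 0 < Nat.card N := Nat.card_pos
    have h6 : 1 < s ^ (2 * a) := Nat.one_lt_pow (by have := H.ha; omega) hs.one_lt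
    nlinarith
  have hpn : ∃ n, p ^ n = Q ^ (s ^ a) := ⟨_, by rw [← hV]; exact (card_eq_pow V).symm⟩
  obtain ⟨n, hpn⟩ := hpn
  have hpp : p.Prime := Fact.out
  have hQp : IsPrimePow Q := isPrimePow_of_pow hpp (pow_pos hs.pos a) hQ hpn
  rcases hs.eq_two_or_odd with hs2 | hsodd
  · subst hs2
    have ha : 2 ≤ a := by omega
    -- `4` divides the order of the centre
    have h4z : 4 ∣ Nat.card (Subgroup.center N) := by
      by_contra h4
      -- two noncommuting elements
      have hex : ∃ x y : N, ⁅x, y⁆ ≠ 1 := by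
        by_contra hcon
        push Not at hcon
        have htop : Subgroup.center N = ⊤ := by
          rw [eq_top_iff]
          intro x _
          exact Subgroup.mem_center_iff.2 fun y => (commutatorElement_eq_one_iff_mul_comm.1 (hcon y x))
        have hc := H.card
        rw [htop, Subgroup.card_top] at hc
        have := H.fin
        have hpos : 0 < Nat.card N := Nat.card_pos
        have h6 : 1 < 2 ^ (2 * a) := Nat.one_lt_pow (by omega) (by norm_num)
        nlinarith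
      obtain ⟨x, y, hxy⟩ := hex
      obtain ⟨c, hc, hxc⟩ := hF x
      obtain ⟨d, hd, hyd⟩ := hF y
      set x' := x * c with hx'
      set y' := y * d with hy'
      have hcx : ⁅x', y'⁆ = ⁅x, y⁆ := by
        rw [hx', hy', H.comm_mul_left, H.comm_mul_right, H.comm_mul_right]
        have e1 : ⁅x, d⁆ = 1 := commutatorElement_eq_one_iff_mul_comm.2 (Subgroup.mem_center_iff.1 hd x)
        have e2 : ⁅c, y⁆ = 1 := commutatorElement_eq_one_iff_mul_comm.2 (Subgroup.mem_center_iff.1 hc y).symm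
        have e3 : ⁅c, d⁆ = 1 := commutatorElement_eq_one_iff_mul_comm.2 (Subgroup.mem_center_iff.1 hd c)
        rw [e1, e2, e3, mul_one, mul_one, mul_one]
      obtain ⟨e, he, hxe⟩ := hF (x' * y')
      -- `(x' y' e)^2 = [x', y'] e^2`
      have h6 : (x' * y' * e) ^ 2 = ⁅x', y'⁆ * e ^ 2 := by
        have hxi : x'⁻¹ = x' := inv_eq_of_mul_eq_one_right (by rw [← sq]; exact hxc)
        have hyi : y'⁻¹ = y' := inv_eq_of_mul_eq_one_right (by rw [← sq]; exact hyd)
        have hec := Subgroup.mem_center_iff.1 he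
        rw [commutatorElement_def, hxi, hyi, sq, sq]
        calc x' * y' * e * (x' * y' * e) = x' * y' * (e * (x' * y')) * e := by group
          _ = x' * y' * ((x' * y') * e) * e := by rw [hec (x' * y')]
          _ = x' * y' * x' * y' * (e * e) := by group
      rw [hxe, hcx] at h6
      have h7 : e ^ 2 = ⁅x, y⁆⁻¹ := by
        rw [eq_comm, inv_eq_iff_mul_eq_one]; exact h6.symm
      have h8 : ⁅x, y⁆ ^ 2 = 1 := H.comm_pow x y
      have h9 : e ^ 4 = 1 := by
        have : e ^ 4 = (e ^ 2) ^ 2 := by rw [← pow_mul]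
        rw [this, h7, inv_pow, h8, inv_one]
      have h10 : e ^ 2 ≠ 1 := by rw [h7]; exact fun h => hxy (inv_eq_one.1 h)
      have h11 : orderOf e = 2 ^ 2 := by
        have : Fact (Nat.Prime 2) := ⟨Nat.prime_two⟩
        exact orderOf_eq_prime_pow (p := 2) (n := 1) (by simpa using h10) (by simpa using h9)
      have h12 : orderOf e ∣ Nat.card (Subgroup.center N) := Subgroup.orderOf_dvd_natCard _ he
      rw [h11] at h12
      exact h4 h12
    obtain ⟨ha2, hQ17, hz4, hmm⟩ := Cfsg.Agent.H451.HT.full_two ha h4z hz hQ h1 h3 h4 h5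
    subst ha2
    refine ⟨rfl, rfl, ?_, hz4, m, hm, hmm⟩
    rw [hV, hQ17]
    norm_num
  · exfalso
    have hs3 : 3 ≤ s := by
      have := hs.two_le
      rcases Nat.lt_or_ge s 3 with h6 | h6
      · interval_cases s; simp at hsodd
      · exact h6
    exact Cfsg.Agent.H450.HT.full_odd hs hs3 H.ha hsz hz hQp h1 h3 h4 h5

/-- a group normalising a symplectic type group of order `64` with centre of order `4` on a space of order `17 ^ 4`
has order prime to `17` -/
theorem cop_seventeen {V : Type u} [AddCommGroup V] [Fact (Nat.Prime 17)] [Module (ZMod 17) V] [Finite V]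
    (hV : Nat.card V = 17 ^ 4) {G N : Subgroup (V ≃ₗ[ZMod 17] V)} (hn : ∀ g ∈ G, ∀ x ∈ N, g * x * g⁻¹ ∈ N)
    (H : Sym 2 2 N V) (hF : Full 2 N) (hz : Nat.card (Subgroup.center N) = 4) : ¬ 17 ∣ Nat.card G := by
  classical
  intro hdvd
  have hfin := H.fin
  have : Finite (V ≃ₗ[ZMod 17] V) := finG
  obtain ⟨g, hg⟩ := exists_prime_orderOf_dvd_card' 17 hdvd
  -- conjugation by `g`
  let c : MulAut N := 
    { toFun := fun x => ⟨(g : V ≃ₗ[ZMod 17] V) * x * (g : V ≃ₗ[ZMod 17] V)⁻¹, hn _ g.2 _ x.2⟩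
      invFun := fun x => ⟨(g : V ≃ₗ[ZMod 17] V)⁻¹ * x * (g : V ≃ₗ[ZMod 17] V), by
        have := hn _ (G.inv_mem g.2) _ x.2
        rwa [inv_inv] at this⟩
      left_inv := fun x => Subtype.ext (by simp [mul_assoc])
      right_inv := fun x => Subtype.ext (by simp [mul_assoc])
      map_mul' := fun x y => Subtype.ext (by simp [mul_assoc]) }
  have hpow : ∀ (n : ℕ) (x : N), (((c ^ n) x : N) : V ≃ₗ[ZMod 17] V) =
      (g : V ≃ₗ[ZMod 17] V) ^ n * x * ((g : V ≃ₗ[ZMod 17] V) ^ n)⁻¹ := by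
    intro n
    induction n with
    | zero => intro x; simp
    | succ n ih =>
      intro x
      rw [pow_succ', MulAut.mul_apply]
      change (g : V ≃ₗ[ZMod 17] V) * (((c ^ n) x : N) : V ≃ₗ[ZMod 17] V) * (g : V ≃ₗ[ZMod 17] V)⁻¹ = _
      rw [ih, pow_succ']
      group
  have hc17 : c ^ 17 = 1 := by
    apply MulEquiv.ext
    intro x
    apply Subtype.ext
    rw [hpow]
    have h1 : (g : V ≃ₗ[ZMod 17] V) ^ 17 = 1 := by
      have := pow_orderOf_eq_one g
      rw [hg] at this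
      exact congrArg Subtype.val this
    rw [h1]
    simp
  -- `c` is trivial
  have hc1 : c = 1 := by
    have hpg : IsPGroup 17 (Subgroup.zpowers c) := by
      refine IsPGroup.of_card_dvd_pow (n := 1) ?_
      rw [Nat.card_zpowers, pow_one]
      exact orderOf_dvd_of_pow_eq_one hc17
    have h1 := hpg.card_modEq_card_fixedPoints N
    let Fx : Subgroup N :=
      { carrier := {x | c x = x}
        one_mem' := map_one c
        mul_mem' := fun {a b} ha hb => by
          change c (a * b) = a * b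
          rw [map_mul, show c a = a from ha, show c b = b from hb]
        inv_mem' := fun {a} ha => by
          change c a⁻¹ = a⁻¹
          rw [map_inv, show c a = a from ha] }
    have h2 : Nat.card (MulAction.fixedPoints (Subgroup.zpowers c) N) = Nat.card Fx := by
      refine Nat.card_congr (Equiv.setCongr ?_)
      ext x
      constructor
      · intro h
        exact h ⟨c, Subgroup.mem_zpowers c⟩
      · rintro h ⟨_, k, rfl⟩
        have h3 : c x = x := h
        have h4 : c ∈ MulAction.stabilizer (MulAut N) x := h3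
        exact (MulAction.stabilizer (MulAut N) x).zpow_mem h4 k
    rw [h2] at h1
    have h3 : Nat.card N = 64 := by rw [H.card, hz]; norm_num
    have h4 : Nat.card Fx ∣ 64 := h3 ▸ Subgroup.card_subgroup_dvd_card Fx
    rw [h3] at h1
    have h5 : Nat.card Fx = 64 := by
      have h6 : Nat.card Fx ∈ Nat.divisors 64 := Nat.mem_divisors.2 ⟨h4, by norm_num⟩
      have h7 : Nat.divisors 64 = {1, 2, 4, 8, 16, 32, 64} := by decide +kernel
      rw [h7] at h6
      simp only [Finset.mem_insert, Finset.mem_singleton] at h6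
      unfold Nat.ModEq at h1
      rcases h6 with h | h | h | h | h | h | h <;> rw [h] at h1 <;> first | exact h | (norm_num at h1)
    have h6 : Fx = ⊤ := Subgroup.eq_top_of_card_eq _ (by rw [h5, h3])
    apply MulEquiv.ext
    intro x
    exact (h6 ▸ Subgroup.mem_top x : x ∈ Fx)
  have hcomm : ∀ x ∈ N, (g : V ≃ₗ[ZMod 17] V) * x = x * g := by
    intro x hx
    have h1 : (g : V ≃ₗ[ZMod 17] V) * x * (g : V ≃ₗ[ZMod 17] V)⁻¹ = x := by
      have h2 : c ⟨x, hx⟩ = ⟨x, hx⟩ := by rw [hc1]; rfl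
      exact congrArg Subtype.val h2
    exact mul_inv_eq_iff_eq_mul.1 h1
  -- the fixed points of `g`
  have hnt := H.nt
  have hgp : IsPGroup 17 (Subgroup.zpowers g) := by
    refine IsPGroup.of_card_dvd_pow (n := 1) ?_
    rw [Nat.card_zpowers, pow_one, hg]
  obtain ⟨v, hv, hvf⟩ := Cfsg.Agent.H19.HT.exists_fixed_pgroup (Subgroup.zpowers g) hgp
  have hWb : fx (g : V ≃ₗ[ZMod 17] V) ≠ ⊥ := by
    intro h
    apply hv
    have h1 : v ∈ fx (g : V ≃ₗ[ZMod 17] V) := mem_fx.2 (hvf g (Subgroup.mem_zpowers g))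
    rw [h] at h1
    exact (Submodule.mem_bot _).1 h1
  obtain ⟨e, -, H'⟩ := H.restr hWb (by
    intro x hx w hw
    rw [mem_fx] at hw ⊢
    have h1 : (g : V ≃ₗ[ZMod 17] V) (x w) = x ((g : V ≃ₗ[ZMod 17] V) w) :=
      congrArg (fun f : V ≃ₗ[ZMod 17] V => f w) (hcomm x hx)
    rw [h1, hw])
  obtain ⟨Q, hQ, hW, -⟩ := numbers_full H' (hF.congr e) (Or.inr le_rfl)
  have h17 : 17 ≤ Q := by
    have h1 : Q ∣ 17 ^ Module.finrank (ZMod 17) (fx (g : V ≃ₗ[ZMod 17] V)) := by
      rw [← card_eq_pow (p := 17), hW]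
      exact dvd_pow_self Q (by norm_num)
    obtain ⟨j, -, hj⟩ := (Nat.dvd_prime_pow (by norm_num)).1 h1
    rcases Nat.eq_zero_or_pos j with h2 | h2
    · subst h2; omega
    · rw [hj]; exact Nat.le_self_pow h2.ne' 17
  have h18 : Nat.card V ≤ Nat.card (fx (g : V ≃ₗ[ZMod 17] V)) := by
    rw [hV, hW]
    exact Nat.pow_le_pow_left h17 4
  have htop : fx (g : V ≃ₗ[ZMod 17] V) = ⊤ := by
    have : Finite (fx (g : V ≃ₗ[ZMod 17] V)) := inferInstance
    have h19 := Set.eq_of_subset_of_ncard_le (Set.subset_univ (fx (g : V ≃ₗ[ZMod 17] V) : Set V)) (by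
      rw [Set.ncard_univ]; exact h18)
    exact SetLike.coe_injective (by rw [h19]; rfl)
  have hg1 : g = 1 := by
    apply Subtype.ext
    apply LinearEquiv.ext
    intro w
    exact mem_fx.1 (htop ▸ Submodule.mem_top : w ∈ fx (g : V ≃ₗ[ZMod 17] V))
  rw [hg1, orderOf_one] at hg
  norm_num at hg

/-- **Full type is impossible.** -/
theorem full_false' {G N : Subgroup (V ≃ₗ[ZMod p] V)} (hN : N ≤ G) (hn : ∀ g ∈ G, ∀ x ∈ N, g * x * g⁻¹ ∈ N)
    {h : ℕ} (hh : Half G h) (h2 : 2 ≤ h) {s a : ℕ} (H : Sym s a N V) (hF : Full s N)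
    (big : 3 ≤ s ∨ 2 ≤ a) : False := by
  obtain ⟨rfl, rfl, hV, hz, m, hm, hmm⟩ := full_num' hN hn hh h2 H hF big
  have hp : p = 17 := by
    have h1 := card_eq_pow (p := p) V
    rw [hV] at h1
    have hpp : p.Prime := Fact.out
    have h2 : p ∣ 17 ^ 4 := by
      rw [h1]
      refine dvd_pow_self p ?_
      rintro h3
      rw [h3] at h1
      norm_num at h1
    exact (Nat.prime_dvd_prime_iff_eq hpp (by norm_num)).1 (hpp.dvd_of_dvd_pow h2)
  subst hp
  have hcop := cop_seventeen hV hn H hF hz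
  exact beta_two hV hN hn hcop hh h2 hm hmm H hF hz fun t ht ht2 ht1 ht3 =>
    Cfsg.Agent.H137.HT.beta_one hV hN hn hcop hh h2 hm hmm H hF hz ht ht2 ht1 ht3

/-- the numerical restrictions -/
theorem full_num {G N : Subgroup (V ≃ₗ[ZMod p] V)} (hN : N ≤ G) (hn : ∀ g ∈ G, ∀ x ∈ N, g * x * g⁻¹ ∈ N)
    (_hcop : ¬ p ∣ Nat.card G) {h : ℕ} (hh : Half G h) (h2 : 2 ≤ h) {s a : ℕ} (H : Sym s a N V) (hF : Full s N)
    (big : 3 ≤ s ∨ 2 ≤ a) : s = 2 ∧ a = 2 ∧ Nat.card V = 17 ^ 4 ∧ Nat.card (Subgroup.center N) = 4 ∧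
      ∃ m, m * h = Nat.card G ∧ (m = 320 ∨ m = 960) :=
  full_num' hN hn hh h2 H hF big

/-- **Full type is impossible.** -/
theorem full_false {G N : Subgroup (V ≃ₗ[ZMod p] V)} (hN : N ≤ G) (hn : ∀ g ∈ G, ∀ x ∈ N, g * x * g⁻¹ ∈ N)
    (_hcop : ¬ p ∣ Nat.card G) {h : ℕ} (hh : Half G h) (h2 : 2 ≤ h) {s a : ℕ} (H : Sym s a N V) (hF : Full s N)
    (big : 3 ≤ s ∨ 2 ≤ a) : False :=
  full_false' hN hn hh h2 H hF big

end Cfsg.Agent.H662.HT
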