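import Cfsg.Agent.H662.HT.DOne
import Cfsg.Agent.H662.HT.Restr
import Cfsg.Agent.H212.HT.C2

/-!
# Extraspecial 2-groups in half-transitive linear groups (S3540, S3577; helper662)
-/

set_option autoImplicit false

open scoped commutatorElement
open Finset

namespace Cfsg.Agent.H662.HT

open Cfsg.Agent.H828.HT
open Cfsg.Agent.H662.HT.Leaf

universe u

set_option linter.unusedSectionVars false

variable {p : ℕ} [Fact p.Prime] {V : Type u} [AddCommGroup V] [Module (ZMod p) V] [Finite V]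

/-- the numerical restrictions for extraspecial 2-groups -/
theorem two_num' {G N : Subgroup (V ≃ₗ[ZMod p] V)} (hN : N ≤ G) (hn : ∀ g ∈ G, ∀ x ∈ N, g * x * g⁻¹ ∈ N)
    {h : ℕ} (hh : Half G h) (h2 : 2 ≤ h) {a : ℕ} (H : Sym 2 a N V)
    (hz : Nat.card (Subgroup.center N) = 2) (ha : 2 ≤ a) :
    a = 2 ∧ Nat.card (sol 2 (⊥ : Subgroup N)) = 12 ∧ ∃ Q m, 1 < Q ∧ Nat.card V = Q ^ 2 ∧ m * h = Nat.card G ∧
      m ∣ 10 * (Q - 1) ∧ m ∣ Q ^ 2 - 1 ∧ Q ^ 2 ≤ 2 * m ^ 2 ∧ (Q = 9 ∨ 32 ∣ m) := by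
  have := H.nt
  have := H.fin
  obtain ⟨v, hv⟩ := exists_ne (0 : V)
  obtain ⟨m, hm, hm0⟩ := exists_m hh ⟨v, hv⟩
  have h0 : 0 < h := by omega
  obtain ⟨σ, hσ, hS⟩ := sol_two H hz
  have h1 := hS ⊥ (by simp)
  have hb : Nat.card (⊥ : Subgroup N) = 1 := Subgroup.card_bot
  rw [hb] at h1
  push_cast at h1
  rw [mul_one, mul_one] at h1
  have hNc : Nat.card N = 2 ^ (2 * a + 1) := by rw [H.card, hz, pow_succ, mul_comm]
  have hVm := dvd_card_sub_one hh h0 hm
  have hVl := Cfsg.Agent.H19.HT.card_le hh h2 hm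
  rcases hσ with rfl | rfl
  · exfalso
    have h3 : Nat.card (sol 2 (⊥ : Subgroup N)) = 2 ^ (2 * a) + 2 ^ a := by exact_mod_cast h1
    obtain ⟨Q, hQ, hV, hX, hfree⟩ := numbers_plus H hz ha h3
    refine Cfsg.Agent.H183.HT.plus_arith ha hQ (m := m) ?_ ?_ ?_ ?_
    · rw [← hX]; exact dvd_spec hn hh h0 hm 2 a
    · rw [← hNc]; exact dvd_of_free hN hn hh h0 hm hfree
    · rw [← hV]; exact hVm
    · rw [← hV]; exact hVl
  · have h3 : Nat.card (sol 2 (⊥ : Subgroup N)) + 2 ^ a = 2 ^ (2 * a) := by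
      have : (Nat.card (sol 2 (⊥ : Subgroup N)) : ℤ) + 2 ^ a = 2 ^ (2 * a) := by rw [h1]; ring
      exact_mod_cast this
    obtain ⟨Q, hQ, h8, hV, hX, hfree⟩ := numbers_minus H hz ha h3
    have hspec := dvd_spec hn hh h0 hm 2 (a - 1)
    rw [hX] at hspec
    rcases Nat.lt_or_ge 2 a with ha3 | ha3
    · exfalso
      rcases hfree with ⟨h4, -⟩ | hfree
      · omega
      · refine Cfsg.Agent.H183.HT.minus_arith ha3 hQ h8 (m := m) hspec ?_ ?_ ?_
        · rw [← hNc]; exact dvd_of_free hN hn hh h0 hm hfree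
        · rw [← hV]; exact hVm
        · rw [← hV]; exact hVl
    · have ha2 : a = 2 := by omega
      subst ha2
      have e1 : (2 : ℕ) ^ (2 - 1) = 2 := by norm_num
      have e2 : ∏ i ∈ Icc 2 2, ((2 : ℕ) ^ i + 1) = 5 := by simp
      rw [e1, e2] at hspec
      rw [e1] at hV
      refine ⟨rfl, by omega, Q, m, hQ, hV, hm, by simpa using hspec, ?_, ?_, ?_⟩
      · rw [← hV]; exact hVm
      · rw [← hV]; exact hVl
      · rcases hfree with ⟨-, h4⟩ | hfree
        · exact Or.inl h4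
        · right
          have := dvd_of_free hN hn hh h0 hm hfree
          rwa [hNc] at this

/-- **Extraspecial 2-groups of width at least 2: only `p = 3`, width 2.** -/
theorem two_three' {G N : Subgroup (V ≃ₗ[ZMod p] V)} (hN : N ≤ G) (hn : ∀ g ∈ G, ∀ x ∈ N, g * x * g⁻¹ ∈ N)
    {h : ℕ} (hh : Half G h) (h2 : 2 ≤ h) {a : ℕ} (H : Sym 2 a N V)
    (hz : Nat.card (Subgroup.center N) = 2) (ha : 2 ≤ a) : p = 3 ∧ a = 2 := by
  obtain ⟨rfl, hsol, -⟩ := two_num' hN hn hh h2 H hz ha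
  refine ⟨?_, rfl⟩
  by_contra hp3
  have hpp : p.Prime := Fact.out
  have hp2 : p ≠ 2 := by
    rintro rfl
    apply H.cop
    have := H.nt
    rw [card_eq_pow (p := 2) V]
    exact dvd_pow_self 2 (Module.finrank_pos).ne'
  have hp5 : 5 ≤ p := by
    have := hpp.two_le
    rcases Nat.lt_or_ge p 5 with h5 | h5
    · interval_cases p
      · exact absurd rfl hp2
      · exact absurd rfl hp3
      · exact absurd hpp (by norm_num)
    · exact h5
  have hp3' : 3 ≤ p := by omega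
  have hntV := H.nt
  obtain ⟨t, ht, htN, hcl, hinvo⟩ := exists_frame hp3' H hz hsol
  obtain ⟨W, hWc, hWt⟩ := Cfsg.Agent.H845.HT.exists_small_of hp3' ht.sq ht.anti ht.prod
  have hWb : W ≠ ⊥ := by
    rintro rfl
    have hone : Nat.card (⊥ : Submodule (ZMod p) V) = 1 := Nat.card_unique
    rw [hone] at hWc
    have := Nat.one_lt_pow (n := 4) (by norm_num) (show 1 < p by omega)
    omega
  have hWt' : ∀ k, ∀ v, v ∈ W ↔ t k v ∈ W := fun k => inv_of_sq (ht.sq k) (hWt k)
  have hWN : ∀ x ∈ N, ∀ w ∈ W, x w ∈ W := by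
    intro x hx
    rw [hcl] at hx
    have key : ∀ x ∈ Subgroup.closure (Set.range t), (∀ v, v ∈ W ↔ x v ∈ W) := by
      intro x hx
      induction hx using Subgroup.closure_induction with
      | mem x hx =>
        obtain ⟨k, rfl⟩ := hx
        exact hWt' k
      | one => exact fun _ => Iff.rfl
      | mul x y _ _ hx hy => exact fun v => (hy v).trans (hx (y v))
      | inv x _ hx =>
        intro v
        have h3 := hx (x⁻¹ v)
        have h4 : x (x⁻¹ v) = v := x.apply_symm_apply v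
        rw [h4] at h3
        exact h3.symm
    exact fun w hw => (key x hx w).1 hw
  have hirr : ∀ W' : Submodule (ZMod p) V, W' ≤ W → (∀ n ∈ N, ∀ v ∈ W', n v ∈ W') → W' = ⊥ ∨ W' = W := by
    intro W' hle hinv
    by_cases hb : W' = ⊥
    · exact Or.inl hb
    · right
      have h3 := ht.card_ge hp3' (W := W') (fun k => inv_of_sq (ht.sq k) (fun w hw => hinv _ (htN k) w hw)) hb
      apply Submodule.eq_of_le_of_finrank_le hle
      rw [card_eq_pow (p := p) W'] at h3
      rw [card_eq_pow (p := p) W] at hWc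
      have h4 := Nat.pow_right_injective hpp.two_le hWc
      rw [h4]
      exact (Nat.pow_le_pow_iff_right hpp.one_lt).1 h3
  -- the group induced on `W`
  have hst := stab_of_irred N hn hWN hirr
  obtain ⟨h', hk, hh'⟩ := half_rs hh hst hWb
  obtain ⟨e, he, H'⟩ := H.restr hWb hWN
  set P := rs G W with hP
  have hEP : rs N W ≤ P := by
    rintro _ ⟨⟨g, hg⟩, rfl⟩
    exact ⟨⟨g, hN hg.1, hg.2⟩, rfl⟩
  have hEn : ∀ g ∈ P, ∀ x ∈ rs N W, g * x * g⁻¹ ∈ rs N W := by
    rintro _ ⟨⟨g, hg⟩, rfl⟩ _ ⟨⟨x, hx⟩, rfl⟩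
    have hgx : g * x * g⁻¹ ∈ stb N W := ⟨hn g hg.1 x hx.1, by
      have h3 : g⁻¹ ∈ stb G W := (stb G W).inv_mem hg
      intro v
      exact ((h3.2 v).trans (hx.2 _)).trans (hg.2 _)⟩
    exact ⟨⟨_, hgx⟩, LinearEquiv.ext fun _ => rfl⟩
  let t' := rfr t W hWt'
  have ht' : Frame5 t' := ht.restr hWt'
  have htP : ∀ k, t' k ∈ P := fun k => ⟨⟨t k, hN (htN k), hWt' k⟩, LinearEquiv.ext fun _ => rfl⟩
  have hntW : Nontrivial W := (Submodule.nontrivial_iff_ne_bot).2 hWb
  have hnorm : Norm5 t' P := by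
    rintro _ ⟨⟨g, hg⟩, rfl⟩ k
    have h3 : g * t k * g⁻¹ ∈ N := hn g hg.1 _ (htN k)
    have h4 : (g * t k * g⁻¹) * (g * t k * g⁻¹) = 1 := by
      have : (g * t k * g⁻¹) * (g * t k * g⁻¹) = g * (t k * t k) * g⁻¹ := by group
      rw [this, ht.sq k, mul_one, mul_inv_cancel]
    have hgg : ∀ v, g⁻¹ (g v) = v := fun v => g.symm_apply_apply v
    have hgv : ∀ v, (g * t k * g⁻¹) (g v) = g (t k v) := fun v => by
      change g (t k (g⁻¹ (g v))) = _
      rw [hgg]
    obtain ⟨v₀, hv₀, hv₀t⟩ := ht.exists_fix hp3' k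
    rcases hinvo _ h3 h4 with h5 | h5 | ⟨j, h5 | h5⟩
    · -- `t k = 1` is impossible
      exfalso
      have h6 : ∀ v, t k v = v := fun v => by
        have := h5 (g v)
        rw [hgv] at this
        exact g.injective this
      obtain ⟨j, hj⟩ : ∃ j : Fin 5, j ≠ k := exists_ne k
      have h7 := ht.anti j k hj v₀
      change t j (t k v₀) = -(t k (t j v₀)) at h7
      rw [h6, h6] at h7
      have h8 : (2 : ZMod p) • (t j v₀) = 0 := by
        rw [two_smul]
        nth_rewrite 1 [h7]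
        exact neg_add_cancel _
      have h9 : (2 : ZMod p) ≠ 0 := by
        have : ((2 : ℕ) : ZMod p) ≠ 0 := by
          rw [Ne, ZMod.natCast_eq_zero_iff]
          intro hd
          have := Nat.le_of_dvd (by norm_num) hd
          omega
        exact_mod_cast this
      rcases smul_eq_zero.1 h8 with h10 | h10
      · exact h9 h10
      · exact hv₀ (by rw [← (t j).symm_apply_apply v₀, h10, map_zero])
    · exfalso
      have h6 : t k v₀ = -v₀ := by
        have := h5 (g v₀)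
        rw [hgv] at this
        apply g.injective
        rw [this, map_neg]
      rw [hv₀t] at h6
      have h8 : (2 : ZMod p) • v₀ = 0 := by
        rw [two_smul]
        nth_rewrite 1 [h6]
        exact neg_add_cancel _
      have h9 : (2 : ZMod p) ≠ 0 := by
        have : ((2 : ℕ) : ZMod p) ≠ 0 := by
          rw [Ne, ZMod.natCast_eq_zero_iff]
          intro hd
          have := Nat.le_of_dvd (by norm_num) hd
          omega
        exact_mod_cast this
      rcases smul_eq_zero.1 h8 with h10 | h10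
      · exact h9 h10
      · exact hv₀ h10
    · refine ⟨j, Or.inl fun v => Subtype.ext ?_⟩
      change g (t k v) = t j (g v)
      rw [← hgv, h5]
    · refine ⟨j, Or.inr fun v => Subtype.ext ?_⟩
      change g (t k v) = -(t j (g v))
      rw [← hgv, h5]
  -- `h'` is even
  have heven : 2 ∣ h' := by
    obtain ⟨v₀, hv₀, hv₀t⟩ := ht'.exists_fix hp3' 0
    refine dvd_h hh' (g := (⟨t' 0, htP 0⟩ : P)) (orderOf_eq_prime ?_ ?_) hv₀ hv₀t
    · rw [sq]; exact Subtype.ext (ht'.sq 0)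
    · intro h3
      have h4 : t' 0 = 1 := congrArg Subtype.val h3
      have h7 := ht'.anti 1 0 (by decide) v₀
      rw [h4] at h7
      change t' 1 v₀ = -(t' 1 v₀) at h7
      have h8 : (2 : ZMod p) • (t' 1 v₀) = 0 := by
        rw [two_smul]
        nth_rewrite 1 [h7]
        exact neg_add_cancel _
      have h9 : (2 : ZMod p) ≠ 0 := by
        have : ((2 : ℕ) : ZMod p) ≠ 0 := by
          rw [Ne, ZMod.natCast_eq_zero_iff]
          intro hd
          have := Nat.le_of_dvd (by norm_num) hd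
          omega
        exact_mod_cast this
      rcases smul_eq_zero.1 h8 with h10 | h10
      · exact h9 h10
      · exact hv₀ (by rw [← (t' 1).symm_apply_apply v₀, h10, map_zero])
  have hh0 : 0 < h' := by
    rcases Nat.eq_zero_or_pos h' with h3 | h3
    · rw [h3] at hk
      rw [mul_zero] at hk
      omega
    · exact h3
  have hh2 : 2 ≤ h' := Nat.le_of_dvd hh0 heven
  -- numbers on `W`
  have hz' : Nat.card (Subgroup.center (rs N W)) = 2 := by
    rw [← hz]
    exact (Nat.card_congr (Subgroup.centerCongr e).toEquiv).symm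
  obtain ⟨-, -, Q, m, hQ, hWQ, hm, hm1, hm2, hm3, hm4⟩ := two_num' hEP hEn hh' hh2 H' hz' le_rfl
  have hQp : Q = p ^ 2 := by
    have h3 : (p ^ 2) ^ 2 = Q ^ 2 := by rw [← hWQ, hWc]; ring
    exact (Nat.pow_left_injective (n := 2) (by norm_num) h3).symm
  subst hQp
  have hm32 : 32 ∣ m := by
    rcases hm4 with h3 | h3
    · exfalso
      have : 5 ^ 2 ≤ p ^ 2 := Nat.pow_le_pow_left hp5 2
      omega
    · exact h3
  have hcov := cover_inv hp3' hh' heven (F := p ^ 2) (fun y hy => (Cfsg.Agent.H212.HT.inv_fx hp3' ht' hWc hnorm hy).le)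
    (Cfsg.Agent.H212.HT.inv_count hp3' ht' hWc hnorm)
  have hp17 : p ≤ 17 := by
    rw [hWc] at hcov
    by_contra hlt
    have h3 : 18 ≤ p := by omega
    have h4 : 324 ≤ p ^ 2 := by nlinarith
    have h5 : p ^ 4 = p ^ 2 * p ^ 2 := by ring
    have h6 : 1 ≤ p ^ 2 := by omega
    obtain ⟨x, hx⟩ : ∃ x, p ^ 2 = x + 1 := ⟨p ^ 2 - 1, by omega⟩
    rw [h5, hx] at hcov
    have h7 : (x + 1) * (x + 1) - 1 = x * (x + 2) := by
      have : (x + 1) * (x + 1) = x * (x + 2) + 1 := by ring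
      omega
    rw [h7, Nat.add_sub_cancel, mul_comm] at hcov
    have h8 : x + 2 ≤ 310 := Nat.le_of_mul_le_mul_right hcov (by omega)
    omega
  have h32 : 32 ∣ 10 * (p ^ 2 - 1) := hm32.trans hm1
  have hcases : p = 7 ∨ p = 17 := by
    interval_cases p
    all_goals first
      | (left; rfl)
      | (right; rfl)
      | (exfalso; revert h32; norm_num; done)
      | (exfalso; revert hpp; norm_num; done)
  rcases hcases with rfl | rfl
  · have hm480 : m ∣ 480 := by
      have : 10 * (7 ^ 2 - 1) = 480 := by norm_num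
      rwa [this] at hm1
    exact alpha_seven hWc ht' hnorm htP hh' hh2 hm hm480
  · by_cases hi : ∀ g ∈ P, ∀ c : ZMod 17, (∀ v : W, g v = c • v) → c * c ≠ -1
    · have h3 := Cfsg.Agent.H212.HT.inv_count' hp3' ht' hWc hnorm hi
      have h4 := cover_inv hp3' hh' heven (F := 17 ^ 2) (B := 289)
        (fun y hy => (Cfsg.Agent.H212.HT.inv_fx hp3' ht' hWc hnorm hy).le) (by omega)
      rw [hWc] at h4
      norm_num at h4
    · push Not at hi
      obtain ⟨i, hiP, c, hic, hc⟩ := hi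
      have hi2 : ∀ v : W, i (i v) = -v := fun v => by
        rw [hic, hic, smul_smul, hc, neg_smul, one_smul]
      have hcomm : ∀ x : W ≃ₗ[ZMod 17] W, i * x = x * i := fun x => by
        apply LinearEquiv.ext
        intro v
        change i (x v) = x (i v)
        rw [hic, hic, map_smul]
      obtain ⟨H3, HF⟩ := sym_ext H' hz' hi2 (fun x _ => hcomm x)
      refine full_false' (G := P) ?_ ?_ hh' hh2 H3 HF (Or.inr le_rfl)
      · exact sup_le hEP (by rw [Subgroup.zpowers_le]; exact hiP)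
      · intro g hg x hx
        have h5 : (rs N W ⊔ Subgroup.zpowers i).map (MulAut.conj g).toMonoidHom ≤ rs N W ⊔ Subgroup.zpowers i := by
          rw [Subgroup.map_sup]
          refine sup_le_sup ?_ ?_
          · rintro _ ⟨y, hy, rfl⟩
            exact hEn g hg y hy
          · rintro _ ⟨y, hy, rfl⟩
            obtain ⟨k, rfl⟩ := Subgroup.mem_zpowers_iff.1 hy
            have h6 : Commute i g := hcomm g
            change g * i ^ k * g⁻¹ ∈ _
            rw [← (h6.zpow_left k).eq, mul_inv_cancel_right]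
            exact Subgroup.zpow_mem_zpowers i k
        exact h5 ⟨x, hx, rfl⟩

theorem two_num {G N : Subgroup (V ≃ₗ[ZMod p] V)} (hN : N ≤ G) (hn : ∀ g ∈ G, ∀ x ∈ N, g * x * g⁻¹ ∈ N)
    (_hcop : ¬ p ∣ Nat.card G) {h : ℕ} (hh : Half G h) (h2 : 2 ≤ h) {a : ℕ} (H : Sym 2 a N V)
    (hz : Nat.card (Subgroup.center N) = 2) (ha : 2 ≤ a) :
    a = 2 ∧ Nat.card (sol 2 (⊥ : Subgroup N)) = 12 ∧ ∃ Q m, 1 < Q ∧ Nat.card V = Q ^ 2 ∧ m * h = Nat.card G ∧
      m ∣ 10 * (Q - 1) ∧ m ∣ Q ^ 2 - 1 ∧ Q ^ 2 ≤ 2 * m ^ 2 ∧ (Q = 9 ∨ 32 ∣ m) :=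
  two_num' hN hn hh h2 H hz ha

theorem two_three {G N : Subgroup (V ≃ₗ[ZMod p] V)} (hN : N ≤ G) (hn : ∀ g ∈ G, ∀ x ∈ N, g * x * g⁻¹ ∈ N)
    (_hcop : ¬ p ∣ Nat.card G) {h : ℕ} (hh : Half G h) (h2 : 2 ≤ h) {a : ℕ} (H : Sym 2 a N V)
    (hz : Nat.card (Subgroup.center N) = 2) (ha : 2 ≤ a) : p = 3 ∧ a = 2 :=
  two_three' hN hn hh h2 H hz ha

end Cfsg.Agent.H662.HT
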