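import Cfsg.Agent.H662.HT.DOne
import Cfsg.Agent.H662.HT.DTwo
import Cfsg.Agent.H559.HT.ExistsF
import Cfsg.Agent.H298.HT.SymOfF
import Cfsg.Agent.H583.HT.TwoPart
import Cfsg.Agent.H5.HT.SolvSmall
import Cfsg.Agent.H845.HT.SolThree
import Cfsg.Agent.H960.HT.Clif

/-!
# Half-transitive linear groups: the structure of quasi-primitive ones without components (S3540, S3577; helper662)
-/

set_option autoImplicit false

open scoped commutatorElement

namespace Cfsg.Agent.H662.HT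

open Cfsg.Agent.H828.HT Cfsg.Agent.H960.HT

universe u

variable {p : ℕ} [Fact p.Prime] {V : Type u} [AddCommGroup V] [Module (ZMod p) V] [Finite V]

/-- quasi-primitivity from homogeneity of the normal subgroups -/
theorem qpr_of_hom [Nontrivial V] {G : Subgroup (V ≃ₗ[ZMod p] V)} (hirr : Irr G)
    (hhom : ∀ N ≤ G, (∀ g ∈ G, ∀ n ∈ N, g * n * g⁻¹ ∈ N) → Homog N) : QPr G := by
  intro L hL W hW hinv x hx hfix
  have hN : ∀ g ∈ G, ∀ n ∈ L.map G.subtype, g * n * g⁻¹ ∈ L.map G.subtype := by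
    rintro g hg _ ⟨n, hn, rfl⟩
    exact ⟨_, hL.conj_mem n hn ⟨g, hg⟩, rfl⟩
  obtain ⟨M, hMW, hM⟩ := exists_nirr (L.map G.subtype) hW (by
    rintro _ ⟨n, hn, rfl⟩ v hv
    exact hinv n hn v hv)
  have h1 := (hhom _ (Subgroup.map_subtype_le L) hN).faithful hirr hN hM (n := (x : V ≃ₗ[ZMod p] V)) ⟨x, hx, rfl⟩
    fun v hv => hfix v (hMW hv)
  exact Subtype.ext h1

/-- transfer of `Sym` from `L : Subgroup G` to its image in `GL(V)` -/
theorem map_sym {G : Subgroup (V ≃ₗ[ZMod p] V)} {s a : ℕ} {L : Subgroup G} (H : Sym s a L V) :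
    Sym s a (L.map G.subtype) V :=
  H.congr (L.equivMapOfInjective G.subtype G.subtype_injective) fun _ _ => rfl

theorem map_full {G : Subgroup (V ≃ₗ[ZMod p] V)} {s : ℕ} {L : Subgroup G} (H : Full s L) :
    Full s (L.map G.subtype) :=
  H.congr (L.equivMapOfInjective G.subtype G.subtype_injective)

theorem card_center_congr {N N' : Type*} [Group N] [Group N'] (e : N ≃* N') :
    Nat.card (Subgroup.center N) = Nat.card (Subgroup.center N') := by
  refine Nat.card_congr ⟨fun x => ⟨e x, ?_⟩, fun x => ⟨e.symm x, ?_⟩, ?_, ?_⟩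
  · rw [Subgroup.mem_center_iff]
    intro y
    have := Subgroup.mem_center_iff.1 x.2 (e.symm y)
    apply e.symm.injective
    rw [map_mul, map_mul, e.symm_apply_apply, this]
  · rw [Subgroup.mem_center_iff]
    intro y
    have := Subgroup.mem_center_iff.1 x.2 (e y)
    apply e.injective
    rw [map_mul, map_mul, e.apply_symm_apply, this]
  · intro x; exact Subtype.ext (e.symm_apply_apply _)
  · intro x; exact Subtype.ext (e.apply_symm_apply _)

/-- a normal nilpotent subgroup of class two has order prime to `p` -/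
theorem not_dvd_of_class_two [Nontrivial V] {G : Subgroup (V ≃ₗ[ZMod p] V)} (hq : QPr G) {N : Subgroup G}
    (hN : N.Normal) (hc : ∀ x y : N, ⁅x, y⁆ ∈ Subgroup.center N) : ¬ p ∣ Nat.card N := by
  classical
  intro hdvd
  have hfin : Finite (V ≃ₗ[ZMod p] V) := finG
  let _ : CommGroup (N ⧸ Subgroup.center N) :=
    { (inferInstance : Group (N ⧸ Subgroup.center N)) with
      mul_comm := by
        rintro ⟨x⟩ ⟨y⟩
        change (QuotientGroup.mk' (Subgroup.center N)) x * (QuotientGroup.mk' (Subgroup.center N)) y =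
          (QuotientGroup.mk' (Subgroup.center N)) y * (QuotientGroup.mk' (Subgroup.center N)) x
        rw [← commutatorElement_eq_one_iff_mul_comm, ← map_commutatorElement]
        exact (QuotientGroup.eq_one_iff _).2 (hc x y) }
  have hnil : Group.IsNilpotent N :=
    Subgroup.isNilpotent_of_ker_le_center (QuotientGroup.mk' (Subgroup.center N)) (by rw [QuotientGroup.ker_mk'])
  obtain ⟨P⟩ : Nonempty (Sylow p N) := inferInstance
  have hPn : (P : Subgroup N).Normal := inferInstance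
  have hPc : (P : Subgroup N).Characteristic := P.characteristic_of_normal hPn
  have hP' : ((P : Subgroup N).map N.subtype).Normal := ConjAct.normal_of_characteristic_of_normal
  obtain ⟨v, hv, hvf⟩ := Cfsg.Agent.H19.HT.exists_fixed_pgroup ((P : Subgroup N).map N.subtype) (P.isPGroup'.map _)
  let W : Submodule (ZMod p) V :=
    { carrier := {w | ∀ x ∈ (P : Subgroup N).map N.subtype, (x : V ≃ₗ[ZMod p] V) w = w}
      add_mem' := fun {a b} ha hb x hx => by rw [map_add, ha x hx, hb x hx]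
      zero_mem' := fun x _ => map_zero _
      smul_mem' := fun c w hw x hx => by rw [map_smul, hw x hx] }
  have hW : W ≠ ⊥ := fun h => hv ((Submodule.mem_bot (ZMod p)).1 (h ▸ (show v ∈ W from hvf)))
  have hP1 : ∀ x ∈ (P : Subgroup N).map N.subtype, x = 1 := by
    intro x hx
    refine hq _ hP' W hW ?_ x hx ?_
    · intro y hy w hw
      have : y • w = w := hw y hy
      rw [this]; exact hw
    · intro w hw
      exact hw x hx
  have h1 : p ∣ Nat.card (P : Subgroup N) := P.dvd_card_of_dvd_card hdvd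
  have h2 : (P : Subgroup N) = ⊥ := by
    rw [eq_bot_iff]
    intro x hx
    exact Subtype.ext (hP1 x ⟨x, hx, rfl⟩)
  rw [h2, Subgroup.card_bot] at h1
  exact (Fact.out : p.Prime).one_lt.ne' (Nat.dvd_one.1 h1)

/-- E2 without coprimality -/
theorem sym_of_F' [Nontrivial V] {G : Subgroup (V ≃ₗ[ZMod p] V)} (hq : QPr G)
    {A F : Subgroup G} (hA : A.Normal) (hF : F.Normal) (hAF : A ≤ F) (hAc : ∀ x ∈ A, ∀ y ∈ A, x * y = y * x)
    (hmax : ∀ B : Subgroup G, B.Normal → (∀ x ∈ B, ∀ y ∈ B, x * y = y * x) → A ≤ B → B = A)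
    (hcen : ∀ x ∈ F, ∀ y ∈ A, x * y = y * x) (hcomm : ∀ x ∈ F, ∀ y ∈ F, ⁅x, y⁆ ∈ A)
    (hexp : ∃ n : ℕ, Squarefree n ∧ ∀ x ∈ F, x ^ n ∈ A) {s : ℕ} (hs : s.Prime) :
    ∃ N : Subgroup G, N.Normal ∧ A ≤ N ∧ (∀ x : G, x ∈ N ↔ x ∈ F ∧ x ^ s ∈ A) ∧
      (N = A ∨ ∃ a : ℕ, 1 ≤ a ∧ Sym s a N V ∧ (Subgroup.center N).map N.subtype = A ∧
        ((s ≠ 2 ∨ 4 ∣ Nat.card A) → Full s N)) := by
  have hfin : Finite (V ≃ₗ[ZMod p] V) := finG
  obtain ⟨hcyc, hsemi⟩ := Cfsg.Agent.H298.HT.cyclic_semi hq hA hAc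
  obtain ⟨N, hNn, hAN, hN, hZ, ⟨b, hb⟩, hfull⟩ := Cfsg.Agent.H298.HT.group_part hA hF hAF hmax hcen hcomm hexp hcyc hs
  refine ⟨N, hNn, hAN, hN, ?_⟩
  have hcenN : ∀ x : N, x ∈ Subgroup.center N ↔ (x : G) ∈ A := by
    intro x
    rw [Subgroup.mem_center_iff]
    constructor
    · intro h
      exact hZ x x.2 fun y hy => (congrArg Subtype.val (h ⟨y, hy⟩)).symm
    · intro h y
      exact Subtype.ext (hcen y ((hN _).1 y.2).1 _ h)
  have hmap : (Subgroup.center N).map N.subtype = A := by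
    ext x
    constructor
    · rintro ⟨y, hy, rfl⟩
      exact (hcenN y).1 hy
    · intro hx
      exact ⟨⟨x, hAN hx⟩, (hcenN _).2 hx, rfl⟩
  have hcardZ : Nat.card (Subgroup.center N) = Nat.card A := by
    rw [Nat.card_congr ((Subgroup.center N).equivMapOfInjective N.subtype N.subtype_injective).toEquiv, hmap]
  rcases Nat.eq_zero_or_pos b with hb0 | hb0
  · left
    rw [hb0, mul_zero, pow_zero, mul_one] at hb
    exact (Subgroup.eq_of_le_of_card_ge hAN hb.le).symm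
  right
  have hcc : ∀ x y : N, ⁅x, y⁆ ∈ Subgroup.center N := fun x y =>
    (hcenN _).2 (hcomm x ((hN _).1 x.2).1 y ((hN _).1 y.2).1)
  refine ⟨b, hb0, ?_, hmap, ?_⟩
  · refine ⟨inferInstance, inferInstance, hs, hb0, inferInstance, ?_, ?_, ?_, hcc, ?_, ?_⟩
    · -- `s` does not divide `|V|`
      intro h
      rw [card_eq_pow (p := p) V] at h
      have h1 : s = p := (Nat.prime_dvd_prime_iff_eq hs Fact.out).1 (hs.dvd_of_dvd_pow h)
      have h2 : s ∣ Nat.card N := by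
        rw [hb]
        exact Dvd.dvd.mul_left (dvd_pow_self s (by omega)) _
      exact not_dvd_of_class_two hq hNn hcc (h1.symm.dvd.trans h2)
    · let f : Subgroup.center N →* A :=
        { toFun := fun x => ⟨((x : N) : G), (hcenN _).1 x.2⟩
          map_one' := rfl
          map_mul' := fun _ _ => rfl }
      exact isCyclic_of_injective f fun x y h => Subtype.ext (Subtype.ext (congrArg (fun z : A => (z : G)) h))
    · intro x hx hx1 v hv
      exact hsemi x ((hcenN x).1 hx) (fun h => hx1 (Subtype.ext h)) v hv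
    · intro x
      exact (hcenN _).2 ((hN _).1 x.2).2
    · rw [hcardZ, hb]
  · intro h x
    obtain ⟨c, hc, hxc⟩ := hfull h x x.2
    exact ⟨⟨c, hAN hc⟩, (hcenN _).2 hc, Subtype.ext hxc⟩

/-- the structure theorem -/
theorem structure_F' [Nontrivial V] {G : Subgroup (V ≃ₗ[ZMod p] V)} (hq : QPr G) {h : ℕ}
    (hh : Half G h) (h2 : 2 ≤ h) :
    ∃ A F : Subgroup G, A.Normal ∧ F.Normal ∧ A ≤ F ∧ (∀ x ∈ A, ∀ y ∈ A, x * y = y * x) ∧
      (∀ B : Subgroup G, B.Normal → (∀ x ∈ B, ∀ y ∈ B, x * y = y * x) → A ≤ B → B = A) ∧ IsCyclic A ∧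
      (∀ z ∈ A, z ≠ 1 → ∀ v : V, z • v = v → v = 0) ∧
      ((∃ L : Subgroup G, L.Normal ∧ L ≠ ⊥ ∧ ⁅L, L⁆ = L ∧
        ∀ K : Subgroup G, K.Normal → K ≤ L → K = L ∨ ∀ x ∈ K, ∀ y ∈ L, x * y = y * x) ∨
      ((∀ x ∈ F, ∀ y ∈ A, x * y = y * x) ∧ (∀ x ∈ F, ∀ y ∈ F, ⁅x, y⁆ ∈ A) ∧ (∀ x ∈ F, x ^ 2 ∈ A) ∧
        (∀ g : G, (∀ x ∈ F, g * x = x * g) → g ∈ A) ∧
        (F = A ∨ ∃ a, 1 ≤ a ∧ Sym 2 a F V ∧ (Subgroup.center F).map F.subtype = A ∧
          Nat.card F = Nat.card A * 2 ^ (2 * a) ∧ (a = 1 ∨ (a = 2 ∧ p = 3 ∧ ¬ 4 ∣ Nat.card A))))) := by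
  classical
  obtain ⟨A, F, hA, hF, hAF, hAc, hmax, hor⟩ := Cfsg.Agent.H559.HT.exists_F (G := G)
  obtain ⟨hcyc, hsemi⟩ := Cfsg.Agent.H298.HT.cyclic_semi hq hA hAc
  refine ⟨A, F, hA, hF, hAF, hAc, hmax, hcyc, hsemi, ?_⟩
  rcases hor with hL | ⟨hcen, hcomm, hexp, hC⟩
  · exact Or.inl hL
  right
  have conj : ∀ N : Subgroup G, N.Normal → ∀ g ∈ G, ∀ x ∈ N.map G.subtype, g * x * g⁻¹ ∈ N.map G.subtype := by
    rintro N hN g hg _ ⟨x, hx, rfl⟩
    exact ⟨_, hN.conj_mem x hx ⟨g, hg⟩, rfl⟩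
  -- odd primes
  have hodd : ∀ s : ℕ, s.Prime → s ≠ 2 → ∀ x ∈ F, x ^ s ∈ A → x ∈ A := by
    intro s hs hs2 x hx hxs
    obtain ⟨N, hNn, hAN, hN, hor⟩ := sym_of_F' hq hA hF hAF hAc hmax hcen hcomm hexp hs
    rcases hor with rfl | ⟨a, ha, H, hZ, hfull⟩
    · exact (hN x).2 ⟨hx, hxs⟩
    · exact (full_false' (Subgroup.map_subtype_le N) (conj N hNn) hh h2 (map_sym H)
        (map_full (hfull (Or.inl hs2))) (Or.inl (by have := hs.two_le; omega))).elim
  -- squares
  have hsq : ∀ x ∈ F, x ^ 2 ∈ A := by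
    obtain ⟨n, hn, hFn⟩ := hexp
    have key : ∀ k : ℕ, ∀ n : ℕ, n ≤ k → Squarefree n → ∀ x ∈ F, x ^ n ∈ A → x ^ 2 ∈ A := by
      intro k
      induction k with
      | zero =>
        intro n hn hs
        have : n = 0 := by omega
        subst this
        exact absurd hs not_squarefree_zero
      | succ k ih =>
        intro n hn hs x hx hxn
        by_cases h1 : n = 1
        · subst h1
          rw [pow_one] at hxn
          exact A.pow_mem hxn 2
        obtain ⟨q, hq, hqn⟩ := Nat.exists_prime_and_dvd h1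
        obtain ⟨m, rfl⟩ := hqn
        have hm0 : 0 < m := by
          rcases Nat.eq_zero_or_pos m with h | h
          · subst h; simp at hs
          · exact h
        have hsm : Squarefree m := hs.squarefree_of_dvd (Dvd.intro_left q rfl)
        by_cases hq2 : q = 2
        · subst hq2
          -- then `x ^ (2 m) ∈ A` with `m` odd
          by_cases hm1 : m = 1
          · subst hm1; rwa [mul_one] at hxn
          obtain ⟨r, hr, hrm⟩ := Nat.exists_prime_and_dvd hm1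
          have hr2 : r ≠ 2 := by
            rintro rfl
            obtain ⟨j, rfl⟩ := hrm
            have := hs 2 ⟨j, by ring⟩
            have h3 := Nat.isUnit_iff.1 this
            omega
          obtain ⟨j, rfl⟩ := hrm
          have h3 : x ^ (2 * j) ∈ A := by
            refine hodd r hr hr2 _ (F.pow_mem hx _) ?_
            rw [← pow_mul]
            have : 2 * j * r = 2 * (r * j) := by ring
            rwa [this]
          refine ih (2 * j) ?_ ?_ x hx h3
          · have h4 := hr.two_le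
            have : 0 < j := Nat.pos_of_mul_pos_left hm0 |> fun _ => by
              rcases Nat.eq_zero_or_pos j with h | h
              · subst h; simp at hm0
              · exact h
            nlinarith
          · exact hs.squarefree_of_dvd ⟨r, by ring⟩
        · have h3 : x ^ m ∈ A := by
            refine hodd q hq hq2 _ (F.pow_mem hx _) ?_
            rw [← pow_mul, mul_comm]
            exact hxn
          refine ih m ?_ hsm x hx h3
          have h4 := hq.two_le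
          nlinarith
    intro x hx
    exact key n n le_rfl hn x hx (hFn x hx)
  refine ⟨hcen, hcomm, hsq, hC, ?_⟩
  obtain ⟨N, hNn, hAN, hN, hor⟩ := sym_of_F' hq hA hF hAF hAc hmax hcen hcomm hexp
    Nat.prime_two
  have hNF : N = F := by
    ext x
    rw [hN]
    exact ⟨fun h => h.1, fun h => ⟨h, hsq x h⟩⟩
  subst hNF
  rcases hor with h | ⟨a, ha, H, hZ, hfull⟩
  · exact Or.inl h
  right
  have hcardZ : Nat.card (Subgroup.center N) = Nat.card A := by
    rw [← hZ]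
    exact Nat.card_congr ((Subgroup.center N).equivMapOfInjective N.subtype N.subtype_injective).toEquiv
  refine ⟨a, ha, H, hZ, by rw [H.card, hcardZ], ?_⟩
  by_cases ha1 : a = 1
  · exact Or.inl ha1
  right
  have ha2 : 2 ≤ a := by omega
  by_cases h4 : 4 ∣ Nat.card A
  · exact (full_false' (Subgroup.map_subtype_le N) (conj N hNn) hh h2 (map_sym H)
      (map_full (hfull (Or.inr h4))) (Or.inr ha2)).elim
  obtain ⟨E, hE, hEN, HE, hE2⟩ := Cfsg.Agent.H583.HT.two_part hA hNn H hZ h4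
  have h5 := two_three' (Subgroup.map_subtype_le E) (conj E hE) hh h2 (map_sym HE)
    (by rw [← card_center_congr (E.equivMapOfInjective G.subtype G.subtype_injective)]; exact hE2) ha2
  exact ⟨h5.2, h5.1, h4⟩

/-- the structure theorem, coprime case -/
theorem structure_F [Nontrivial V] {G : Subgroup (V ≃ₗ[ZMod p] V)} (hq : QPr G) (_hcop : ¬ p ∣ Nat.card G) {h : ℕ}
    (hh : Half G h) (h2 : 2 ≤ h) :
    ∃ A F : Subgroup G, A.Normal ∧ F.Normal ∧ A ≤ F ∧ (∀ x ∈ A, ∀ y ∈ A, x * y = y * x) ∧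
      (∀ B : Subgroup G, B.Normal → (∀ x ∈ B, ∀ y ∈ B, x * y = y * x) → A ≤ B → B = A) ∧ IsCyclic A ∧
      (∀ z ∈ A, z ≠ 1 → ∀ v : V, z • v = v → v = 0) ∧
      ((∃ L : Subgroup G, L.Normal ∧ L ≠ ⊥ ∧ ⁅L, L⁆ = L ∧
        ∀ K : Subgroup G, K.Normal → K ≤ L → K = L ∨ ∀ x ∈ K, ∀ y ∈ L, x * y = y * x) ∨
      ((∀ x ∈ F, ∀ y ∈ A, x * y = y * x) ∧ (∀ x ∈ F, ∀ y ∈ F, ⁅x, y⁆ ∈ A) ∧ (∀ x ∈ F, x ^ 2 ∈ A) ∧
        (∀ g : G, (∀ x ∈ F, g * x = x * g) → g ∈ A) ∧
        (F = A ∨ ∃ a, 1 ≤ a ∧ Sym 2 a F V ∧ (Subgroup.center F).map F.subtype = A ∧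
          Nat.card F = Nat.card A * 2 ^ (2 * a) ∧ (a = 1 ∨ (a = 2 ∧ p = 3 ∧ ¬ 4 ∣ Nat.card A))))) :=
  structure_F' hq hh h2

/-- an insoluble quasi-primitive half-transitive group of coprime order has a perfect normal subgroup all of whose
`G`-normal subgroups are central in it -/
theorem exists_perf [Nontrivial V] {G : Subgroup (V ≃ₗ[ZMod p] V)} (hq : QPr G) (hcop : ¬ p ∣ Nat.card G) {h : ℕ}
    (hh : Half G h) (h2 : 2 ≤ h) (hins : ¬ Group.IsSolvable G) :
    ∃ L : Subgroup G, L.Normal ∧ L ≠ ⊥ ∧ ⁅L, L⁆ = L ∧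
      ∀ K : Subgroup G, K.Normal → K ≤ L → K = L ∨ ∀ x ∈ K, ∀ y ∈ L, x * y = y * x := by
  have hfin : Finite (V ≃ₗ[ZMod p] V) := finG
  obtain ⟨A, F, hA, hF, hAF, hAc, hmax, hcyc, hsemi, hor⟩ := structure_F hq hcop hh h2
  rcases hor with hL | ⟨hcen, hcomm, hsq, hC, hor⟩
  · exact hL
  exfalso
  apply hins
  rcases hor with rfl | ⟨a, ha, H, hZ, hcard, rfl | ⟨rfl, rfl, h4⟩⟩
  · exact Cfsg.Agent.H5.HT.solvable_of_small hA hF hAF hcyc hC (by omega)
  · exact Cfsg.Agent.H5.HT.solvable_of_small hA hF hAF hcyc hC (by rw [hcard]; norm_num; omega)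
  · exact Cfsg.Agent.H845.HT.solvable_of_three hcop hA hF hAF hcyc hcen hcomm hsq hC (by rw [hcard]; norm_num; omega)

end Cfsg.Agent.H662.HT
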