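import Cfsg.Agent.H662.HT.Glue
import Cfsg.Agent.H177.HT.Main
import Cfsg.Agent.H755.HT.Numbers
import Cfsg.Agent.H990.HT.SolFull
import Cfsg.Agent.H669.HT.Frame
import Cfsg.Agent.H140.HT.Seven
import Cfsg.Agent.H212.HT.SymExt
import Cfsg.Agent.H1.HT.BetaTwo

/-!
# Half-transitive linear groups: the leaves of HT-E under one roof (S3540, S3577; helper662)
-/

set_option autoImplicit false

open scoped commutatorElement
open Finset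

namespace Cfsg.Agent.H662.HT.Leaf

open Cfsg.Agent.H828.HT Cfsg.Agent.H662.HT

universe u v

section numbers

variable {s a : ℕ} {N : Type u} {V : Type v} [Group N] [AddCommGroup V] [DistribMulAction N V]

theorem numbers_full (H : Sym s a N V) (hF : Full s N) (big : 3 ≤ s ∨ 2 ≤ a) :
    ∃ Q : ℕ, 1 < Q ∧ Nat.card V = Q ^ (s ^ a) ∧ Nat.card (Subgroup.center N) ∣ Q - 1 ∧
      Nat.card (spec s a N V) = s ^ a * (∏ i ∈ range a, (s ^ (i + 1) + 1)) * (Q - 1) ∧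
      ∃ v : V, v ≠ 0 ∧ MulAction.stabilizer N v = ⊥ :=
  Cfsg.Agent.H177.HT.Sym_numbers_full H hF big

theorem numbers_plus (H : Sym 2 a N V) (hz : Nat.card (Subgroup.center N) = 2) (ha : 2 ≤ a)
    (hσ : Nat.card (sol 2 (⊥ : Subgroup N)) = 2 ^ (2 * a) + 2 ^ a) :
    ∃ Q : ℕ, 1 < Q ∧ Nat.card V = Q ^ (2 ^ a) ∧
      Nat.card (spec 2 a N V) = 2 ^ a * (∏ i ∈ range a, (2 ^ i + 1)) * (Q - 1) ∧
      ∃ v : V, v ≠ 0 ∧ MulAction.stabilizer N v = ⊥ :=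
  Cfsg.Agent.H755.HT.Sym_numbers_plus H hz ha hσ

theorem numbers_minus (H : Sym 2 a N V) (hz : Nat.card (Subgroup.center N) = 2) (ha : 2 ≤ a)
    (hσ : Nat.card (sol 2 (⊥ : Subgroup N)) + 2 ^ a = 2 ^ (2 * a)) :
    ∃ Q : ℕ, 1 < Q ∧ 8 ∣ Q - 1 ∧ Nat.card V = Q ^ (2 ^ (a - 1)) ∧
      Nat.card (spec 2 (a - 1) N V) = 2 ^ (a - 1) * (∏ i ∈ Icc 2 a, (2 ^ i + 1)) * (Q - 1) ∧
      ((a = 2 ∧ Q = 9) ∨ ∃ v : V, v ≠ 0 ∧ MulAction.stabilizer N v = ⊥) :=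
  Cfsg.Agent.H755.HT.Sym_numbers_minus H hz ha hσ

theorem sol_two (H : Sym 2 a N V) (hz : Nat.card (Subgroup.center N) = 2) :
    ∃ σ : ℤ, (σ = 2 ^ a ∨ σ = -2 ^ a) ∧ ∀ S : Subgroup N, S ⊓ Subgroup.center N = ⊥ →
      (Nat.card (sol 2 S) : ℤ) * Nat.card S = 2 ^ (2 * a) + σ * Nat.card S :=
  Cfsg.Agent.H990.HT.Sym_sol_two H hz

end numbers

section alpha

variable {p : ℕ} [Fact p.Prime] {M : Type u} [AddCommGroup M] [Module (ZMod p) M] [Finite M]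

theorem exists_frame (hp : 3 ≤ p) {E : Subgroup (M ≃ₗ[ZMod p] M)} (H : Sym 2 2 E M)
    (hz : Nat.card (Subgroup.center E) = 2) (hσ : Nat.card (sol 2 (⊥ : Subgroup E)) = 12) :
    ∃ t : Fin 5 → (M ≃ₗ[ZMod p] M), Frame5 t ∧ (∀ k, t k ∈ E) ∧ E = Subgroup.closure (Set.range t) ∧
      ∀ x ∈ E, x * x = 1 → (∀ v : M, x v = v) ∨ (∀ v : M, x v = -v) ∨ ∃ k, x = t k ∨ ∀ v : M, x v = -(t k v) := by
  obtain ⟨t, ht, h⟩ := Cfsg.Agent.H669.HT.exists_frame hp H hz hσ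
  exact ⟨t, ⟨ht.sq, ht.anti, ht.prod⟩, h⟩

theorem alpha_seven {M : Type u} [AddCommGroup M] [Fact (Nat.Prime 7)] [Module (ZMod 7) M] [Finite M]
    (hM : Nat.card M = 7 ^ 4) {t : Fin 5 → (M ≃ₗ[ZMod 7] M)} (ht : Frame5 t) {P : Subgroup (M ≃ₗ[ZMod 7] M)}
    (hn : Norm5 t P) (htP : ∀ k, t k ∈ P) {h m : ℕ} (hh : Half P h) (h2 : 2 ≤ h)
    (hm : m * h = Nat.card P) (hm' : m ∣ 480) : False :=
  Cfsg.Agent.H140.HT.alpha_seven hM ht hn htP hh h2 hm hm'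

/-- C4 -/
theorem sym_ext {a : ℕ} {N : Subgroup (M ≃ₗ[ZMod p] M)} (H : Sym 2 a N M) (hz : Nat.card (Subgroup.center N) = 2)
    {i : M ≃ₗ[ZMod p] M} (hi : ∀ v : M, i (i v) = -v) (hc : ∀ x ∈ N, i * x = x * i) :
    Sym 2 a (N ⊔ Subgroup.zpowers i : Subgroup (M ≃ₗ[ZMod p] M)) M ∧
      Full 2 (N ⊔ Subgroup.zpowers i : Subgroup (M ≃ₗ[ZMod p] M)) :=
  Cfsg.Agent.H212.HT.sym_ext H hz hi hc

end alpha

section beta

variable {V : Type u} [AddCommGroup V] [Fact (Nat.Prime 17)] [Module (ZMod 17) V] [Finite V]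

theorem beta_two (hV : Nat.card V = 17 ^ 4) {G N : Subgroup (V ≃ₗ[ZMod 17] V)} (hN : N ≤ G)
    (hn : ∀ g ∈ G, ∀ x ∈ N, g * x * g⁻¹ ∈ N) (hG : ¬ 17 ∣ Nat.card G) {h m : ℕ} (hh : Half G h) (h2 : 2 ≤ h)
    (hm : m * h = Nat.card G) (hm' : m = 320 ∨ m = 960) (H : Sym 2 2 N V) (hF : Full 2 N)
    (hz : Nat.card (Subgroup.center N) = 4)
    (h1 : ∀ t ∈ N, t * t = 1 → t ≠ 1 → (∃ v, t v ≠ -v) →
      h = 2 * Nat.card (Rst G t) ∧ Nat.card (Lst G t) = 6 * Nat.card (Kst G N t)) : False :=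
  Cfsg.Agent.H1.HT.beta_two hV hN hn hG hh h2 hm hm' H hF hz h1

end beta

end Cfsg.Agent.H662.HT.Leaf
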