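import Cfsg.Agent.H348.HT.Psl
import Cfsg.Agent.H392.HT.SFacts
import Cfsg.Agent.H452.HT.DeadTw
import Cfsg.Agent.H710.PSq.OutSpor
import Cfsg.Agent.H388.EvenFixAll
import Cfsg.Agent.S0815

/-!
# Simple groups without automorphisms of prime order `r ∤ |S|` (S3512, row Q; helper662)
-/

set_option autoImplicit false

namespace Cfsg.Agent.H662.HT.RowQ

open Cfsg
open Cfsg.Agent.H912.Bd (IsL IsU)

universe u v

/-- every prime divisor of `|Aut S|` divides `|S|` -/
def Nca (S : Type u) [Group S] : Prop := ∀ r : ℕ, r.Prime → r ∣ Nat.card (MulAut S) → r ∣ Nat.card S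

theorem Nca.congr {S : Type u} {T : Type v} [Group S] [Group T] (h : Nca S) (e : T ≃* S) : Nca T := by
  intro r hr hd
  rw [Nat.card_congr (MulAut.congr e).toEquiv] at hd
  rw [Nat.card_congr e.toEquiv]
  exact h r hr hd

theorem nca_of {S : Type u} [Group S] {a c k : ℕ} (hA : Nat.card (MulAut S) ∣ a) (hc : c ∣ Nat.card S)
    (h : a ∣ c ^ k) : Nca S :=
  fun _ hr hd => (hr.dvd_of_dvd_pow ((hd.trans hA).trans h)).trans hc

theorem nca_two {S : Type u} [Group S] [Finite S] [IsSimpleGroup S] (hna : ¬ IsMulCommutative S) {k : ℕ}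
    (h : Nat.card (MulAut S) ∣ 2 ^ k * Nat.card S) : Nca S := by
  intro r hr hd
  rcases (Nat.Prime.dvd_mul hr).1 (hd.trans h) with h1 | h1
  · have h2 := hr.dvd_of_dvd_pow h1
    exact h2.trans (Cfsg.Agent.H388.EvenFixAll.even_card hna).two_dvd
  · exact h1

section

variable {S : Type u} [Group S] [Finite S] [IsSimpleGroup S]

theorem nca_alt (hna : ¬ IsMulCommutative S) {m : ℕ} (hm : 5 ≤ m) (e : S ≃* alternatingGroup (Fin m)) : Nca S := by
  by_cases h6 : m = 6
  · subst h6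
    refine nca_of (a := 1440) (c := 360) (k := 2) ?_ ?_ (by norm_num)
    · rw [Nat.card_congr (MulAut.congr e).toEquiv]; exact Cfsg.Agent.H392.HT.card_mulAut_A6_dvd
    · rw [Cfsg.Agent.H392.HT.card_A6 e]
  · refine nca_two hna (k := 1) ?_
    rw [Cfsg.Agent.H392.HT.card_mulAut_alt (by omega) h6 e, ← Cfsg.Agent.H392.HT.card_alt (by omega) e, pow_one,
      mul_comm]

theorem nca_spor (hna : ¬ IsMulCommutative S) (h : IsSporadicGroup S) : Nca S := by
  refine nca_two hna (k := 1) ?_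
  rw [Cfsg.Agent.H452.HT.Tw.card_aut hna, pow_one, mul_comm]
  exact Nat.mul_dvd_mul_right (Cfsg.Agent.H710.PSq.card_out_spor h) _

theorem nca_l2_seven (h : IsL 2 7 S) : Nca S := by
  obtain ⟨K, _, _, hK, ⟨e⟩⟩ := h
  refine Nca.congr ?_ e
  refine nca_of (a := 336) (c := 168) (k := 2) ?_ ?_ (by norm_num)
  · rw [Cfsg.Agent.H348.HT.card_aut_two (p := 7) (f := 1) (by norm_num) le_rfl (by rw [hK]; rfl) (by norm_num)]
    norm_num
  · rw [Cfsg.Agent.H348.HT.card_two hK]; decide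

theorem nca_l2_thirteen (h : IsL 2 13 S) : Nca S := by
  obtain ⟨K, _, _, hK, ⟨e⟩⟩ := h
  refine Nca.congr ?_ e
  refine nca_of (a := 2184) (c := 1092) (k := 2) ?_ ?_ (by norm_num)
  · rw [Cfsg.Agent.H348.HT.card_aut_two (p := 13) (f := 1) (by norm_num) le_rfl (by rw [hK]; rfl) (by norm_num)]
    norm_num
  · rw [Cfsg.Agent.H348.HT.card_two hK]; decide

theorem nca_l2_twentyfive (h : IsL 2 25 S) : Nca S := by
  obtain ⟨K, _, _, hK, ⟨e⟩⟩ := h
  refine Nca.congr ?_ e
  refine nca_of (a := 31200) (c := 7800) (k := 2) ?_ ?_ (by norm_num)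
  · rw [Cfsg.Agent.H348.HT.card_aut_two (p := 5) (f := 2) (by norm_num) (by norm_num) (by rw [hK]; rfl) (by norm_num)]
    norm_num
  · rw [Cfsg.Agent.H348.HT.card_two hK]; decide

theorem nca_l3_four (h : IsL 3 4 S) : Nca S := by
  obtain ⟨K, _, _, hK, ⟨e⟩⟩ := h
  refine Nca.congr ?_ e
  have h2 := Cfsg.Agent.H348.HT.card_three (K := K) (s := 4) (m := 3) (N := 20160) hK (by norm_num) (by norm_num)
    (by rw [Fin.prod_univ_three]; rfl)
  refine nca_of (a := 241920) (c := 20160) (k := 2) ?_ ?_ (by norm_num)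
  · rw [Cfsg.Agent.H348.HT.card_aut_three (p := 2) (f := 2) (by norm_num) (by norm_num) (by rw [hK]; rfl) (by norm_num) h2]
    decide
  · rw [h2]

theorem nca_u (hna : ¬ IsMulCommutative S) {n q p f k : ℕ} (hp : p.Prime) (hf : 1 ≤ f) (hq : q = p ^ f) (hn : 3 ≤ n)
    (h32 : ¬ (n = 3 ∧ q = 2)) (hk : Nat.gcd n (q + 1) * (2 * f) ∣ 2 ^ k) (h : IsU n q S) : Nca S := by
  obtain ⟨K, _, _, hK, ⟨e⟩⟩ := h
  have := Fact.mk hp
  have h1 := Cfsg.Agent.S0815.result p f hf hq hK n hn h32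
  refine nca_two hna (k := k) ?_
  rw [Nat.card_congr (MulAut.congr e).toEquiv, h1, Nat.card_congr e.toEquiv]
  exact Nat.mul_dvd_mul_right hk _

theorem nca_u33 (hna : ¬ IsMulCommutative S) (h : IsU 3 3 S) : Nca S :=
  nca_u hna (p := 3) (f := 1) (k := 1) (by norm_num) le_rfl (by norm_num) (by norm_num) (by norm_num) (by decide) h

theorem nca_u34 (hna : ¬ IsMulCommutative S) (h : IsU 3 4 S) : Nca S :=
  nca_u hna (p := 2) (f := 2) (k := 2) (by norm_num) (by norm_num) (by norm_num) (by norm_num) (by norm_num) (by decide) h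

theorem nca_u42 (hna : ¬ IsMulCommutative S) (h : IsU 4 2 S) : Nca S :=
  nca_u hna (p := 2) (f := 1) (k := 1) (by norm_num) le_rfl (by norm_num) (by norm_num) (by norm_num) (by decide) h

theorem nca_u43 (hna : ¬ IsMulCommutative S) (h : IsU 4 3 S) : Nca S :=
  nca_u hna (p := 3) (f := 1) (k := 3) (by norm_num) le_rfl (by norm_num) (by norm_num) (by norm_num) (by decide) h

end

end Cfsg.Agent.H662.HT.RowQ
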