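import Cfsg.Agent.H662.HT.EFin
import Cfsg.Agent.H960.HT.Asm

/-!
# Half-transitive linear groups without components: the input of the assembly of S3540 (helper662)
-/

set_option autoImplicit false

namespace Cfsg.Agent.H662.HT

universe u

theorem e1_row : Cfsg.Agent.H960.HT.E1Row.{u} := by
  intro p _ V _ _ _ G h _ hh h2 hG hins _ hhom hE
  have := Cfsg.Agent.H960.HT.nontrivial_of_insoluble hins
  exact e1_false hh h2 hG hins hhom hE

end Cfsg.Agent.H662.HT
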