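import Cfsg.Agent.H662.HT.Nca
import Cfsg.Agent.H662.HT.QW
import Cfsg.Agent.H19.HT.Asm
import Cfsg.Agent.H337.HT.Big
import Cfsg.Agent.OddHalf.Known
import Cfsg.Agent.H64.HT.Cop
import Cfsg.Agent.H64.HT.Three
import Cfsg.Agent.H30.HTS.Small
import Cfsg.Agent.S0000

/-!
# S3512: the quasisimple row `RowQ` (`p ∣ |G|`, `p ∤ |L|`) (helper662)

`p ∣ |G| ∣ (|K| - 1) |Aut S|`, hence `p ∣ |Aut S|` and `p ∤ |S|`, `S = L / Z(L)`; the simple groups which satisfy the
numerical conditions (all of them known from S3540) have no such automorphism (`Nca`).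
-/

set_option autoImplicit false

namespace Cfsg.Agent.H662.HT.RowQ

open Cfsg Cfsg.Agent.H915.LD Cfsg.Agent.H828.HT Cfsg.Agent.H662.HT
open Cfsg.Agent.H337.HT (Dead)
open Cfsg.Agent.H912.Bd (IsL IsU)
open scoped commutatorElement

universe u v

variable {p : ℕ} [hp : Fact p.Prime] {K : Type u} [Field K] {V : Type u} [AddCommGroup V] [Module (ZMod p) V]
    [Finite V] [Module K V] {G L : Subgroup (V ≃ₗ[ZMod p] V)} {h : ℕ}

theorem isL_congr {m q : ℕ} {T : Type u} {T' : Type v} [Group T] [Group T'] (e : T ≃* T') (h1 : IsL m q T) :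
    IsL m q T' := by
  obtain ⟨k, i1, i2, hk, ⟨e1⟩⟩ := h1
  exact ⟨k, i1, i2, hk, ⟨e.symm.trans e1⟩⟩

theorem isU_congr {m q : ℕ} {T : Type u} {T' : Type v} [Group T] [Group T'] (e : T ≃* T') (h1 : IsU m q T) :
    IsU m q T' := by
  obtain ⟨k, i1, i2, hk, ⟨e1⟩⟩ := h1
  exact ⟨k, i1, i2, hk, ⟨e.symm.trans e1⟩⟩

omit [Finite V] in
theorem not_comm (H : QW p K V G L h) : ¬ IsMulCommutative (L ⧸ Subgroup.center L) := by
  intro hc
  have h1 : commutator L ≤ Subgroup.center L := by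
    rw [commutator_def, Subgroup.commutator_le]
    intro a _ b _
    have h2 : ((⁅a, b⁆ : L) : L ⧸ Subgroup.center L) = 1 := by
      have h3 := hc.is_comm.comm (a : L ⧸ Subgroup.center L) (b : L ⧸ Subgroup.center L)
      rw [commutatorElement_def, QuotientGroup.mk_mul, QuotientGroup.mk_mul, QuotientGroup.mk_mul, h3]
      simp
    exact (QuotientGroup.eq_one_iff _).1 h2
  rw [H.perf] at h1
  obtain ⟨a, ha, b, hb, hab⟩ := H.nonab
  have h4 := Subgroup.mem_center_iff.1 (h1 (Subgroup.mem_top (⟨a, ha⟩ : L))) ⟨b, hb⟩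
  exact hab (Subtype.ext_iff.1 h4).symm

/-- the simple quotient has an automorphism of order `p` -/
theorem not_nca (H : QW p K V G L h) (hG : p ∣ Nat.card G) (hL : ¬ p ∣ Nat.card L) :
    ¬ Nca (L ⧸ Subgroup.center L) := by
  intro hN
  obtain ⟨k, hk, hk0⟩ := H.exists_card
  have hK1 : ¬ p ∣ Nat.card K - 1 := by
    rw [hk]
    intro hd
    have h1 : p ∣ p ^ k := dvd_pow_self _ hk0.ne'
    have h2 : 1 ≤ p ^ k := Nat.one_le_pow _ _ hp.out.pos
    have h3 : p ∣ p ^ k - (p ^ k - 1) := Nat.dvd_sub h1 hd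
    have h4 : p ^ k - (p ^ k - 1) = 1 := by omega
    rw [h4] at h3
    exact hp.out.one_lt.ne' (Nat.dvd_one.1 h3)
  rcases (Nat.Prime.dvd_mul hp.out).1 (hG.trans H.card_G_dvd) with h1 | h1
  · exact hK1 h1
  · exact hL ((hN p hp.out h1).trans H.card_quot_dvd_L)

theorem not_prime (H : QW p K V G L h) : ¬ (Nat.card (L ⧸ Subgroup.center L)).Prime := fun h1 => by
  have := Fact.mk h1
  have h2 : IsCyclic (L ⧸ Subgroup.center L) := isCyclic_of_prime_card (p := Nat.card (L ⧸ Subgroup.center L)) rfl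
  obtain ⟨g, hg⟩ := h2.exists_generator
  refine not_comm H ⟨⟨fun a b => ?_⟩⟩
  obtain ⟨i, rfl⟩ := hg a
  obtain ⟨j, rfl⟩ := hg b
  exact (zpow_mul_comm g i j)

/-- degree two -/
theorem two_nca (H : QW p K V G L h) (hL : ¬ p ∣ Nat.card L) (h2 : Module.finrank K V = 2) :
    Nca (L ⧸ Subgroup.center L) := by
  obtain ⟨v, hv⟩ := H.exists_ne
  have hnt : Nontrivial V := ⟨⟨v, 0, hv⟩⟩
  have h3 := Cfsg.Agent.H960.HT.semireg_of_two H.lin H.perf hL h2
  have h4 : ⁅(⊤ : Subgroup L), (⊤ : Subgroup L)⁆ = ⊤ := by rw [← commutator_def]; exact H.perf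
  have h5 : (⊤ : Subgroup L) ≠ ⊥ := by
    intro h6
    obtain ⟨a, ha, b, hb, hab⟩ := H.nonab
    have h7 : ∀ x : L, x = 1 := fun x => by
      have := Subgroup.mem_top x
      rw [h6] at this
      exact Subgroup.mem_bot.1 this
    have h8 := h7 ⟨a, ha⟩
    have h9 : a = 1 := congrArg Subtype.val h8
    exact hab (by rw [h9, one_mul, mul_one])
  obtain ⟨e⟩ := H348.HasFPF.perfect (Cfsg.Agent.H960.HT.fpf_of_semireg L h3) ⊤ h4 h5
  have e1 : L ≃* Cfsg.Agent.PermutationGroups.AutSL25.SL25 := Subgroup.topEquiv.symm.trans e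
  have e2 : (L ⧸ Subgroup.center L) ≃* Matrix.ProjectiveSpecialLinearGroup (Fin 2) (ZMod 5) :=
    QuotientGroup.congr _ _ e1 (by
      ext x
      constructor
      · rintro ⟨y, hy, rfl⟩
        rw [SetLike.mem_coe, Subgroup.mem_center_iff] at hy
        rw [Subgroup.mem_center_iff]
        intro z
        obtain ⟨w, rfl⟩ := e1.surjective z
        change e1 w * e1 y = e1 y * e1 w
        rw [← map_mul, hy w, map_mul]
      · intro hx
        obtain ⟨y, rfl⟩ := e1.surjective x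
        refine ⟨y, ?_, rfl⟩
        rw [SetLike.mem_coe, Subgroup.mem_center_iff]
        intro z
        apply e1.injective
        rw [map_mul, map_mul]
        exact Subgroup.mem_center_iff.1 hx _)
  have hS := H.simple
  refine Nca.congr (S := Matrix.ProjectiveSpecialLinearGroup (Fin 2) (ZMod 5)) ?_ e2
  have hK : Fintype.card (ZMod 5) = 5 := ZMod.card 5
  refine nca_of (a := 120) (c := 60) (k := 2) ?_ ?_ (by norm_num)
  · rw [Cfsg.Agent.H348.HT.card_aut_two (p := 5) (f := 1) (by norm_num) le_rfl (by rw [hK]; rfl) (by norm_num)]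
    norm_num
  · rw [Cfsg.Agent.H348.HT.card_two hK]; decide

/-- **RowQ.** -/
theorem false_of (H : QW p K V G L h) (hk : IsKnownSimple' (L ⧸ Subgroup.center L)) (hG : p ∣ Nat.card G)
    (hL : ¬ p ∣ Nat.card L) : False := by
  have hN := not_nca H hG hL
  by_cases hne : Module.finrank K V = 2
  · exact hN (two_nca H hL hne)
  have hne1 := H.finrank_ne_one
  have hpos := H.finrank_pos
  have hsim := H.simple
  obtain ⟨n, hn⟩ : ∃ n, Module.finrank K V = n := ⟨_, rfl⟩
  have hnc := not_comm H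
  have := H.finiteK
  obtain ⟨F, P, -, -, hC, ⟨e⟩, -⟩ := exists_core H hn
  have := H.charP_subfield F
  have : Finite F := inferInstance
  have hnd : ¬ Dead n (Soc P) := fun hd => H.not_dead hL (hn ▸ hd.congr e)
  have hcop : ¬ p ∣ Nat.card (Soc P) := by
    rw [Nat.card_congr e.toEquiv]
    exact fun hd => hL (hd.trans H.card_quot_dvd_L)
  have hkS : IsKnownSimple' (Soc P) := OddHalf.Known.isKnownSimple'_congr e.symm
    (fun h1 => hnc h1) hk
  have hnP : ¬ Nca (Soc P) := fun h1 => hN (h1.congr e.symm)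
  have hsP : IsSimpleGroup (Soc P) := hC.simple
  have hfP : Finite (Soc P) := inferInstance
  have h2 : ¬ (Nat.card (Soc P)).Prime := by
    rw [Nat.card_congr e.toEquiv]
    exact not_prime H
  have hnaP : ¬ IsMulCommutative (Soc P) := by
    intro h1
    refine hnc ⟨⟨fun a b => ?_⟩⟩
    obtain ⟨a, rfl⟩ := e.surjective a
    obtain ⟨b, rfl⟩ := e.surjective b
    rw [← map_mul, ← map_mul, h1.is_comm.comm a b]
  rcases Nat.lt_or_ge n 13 with hlt | hge
  · by_cases h3 : n = 3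
    · subst h3
      rcases H64.HTCop.three_cop hC hkS hcop with ⟨⟨e1⟩⟩ | ⟨⟨e1⟩⟩ | h1
      · exact hnP (nca_alt hnaP (by norm_num) e1)
      · exact hnP (nca_alt hnaP (by norm_num) e1)
      · exact hnP (nca_l2_seven h1)
    by_cases h4 : n = 4
    · subst h4
      rcases H64.HTCop.four_cop hC hkS hcop with ⟨⟨e1⟩⟩ | ⟨⟨e1⟩⟩ | ⟨⟨e1⟩⟩ | h1 | h1
      · exact hnP (nca_alt hnaP (by norm_num) e1)
      · exact hnP (nca_alt hnaP (by norm_num) e1)
      · exact hnP (nca_alt hnaP (by norm_num) e1)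
      · exact hnP (nca_l2_seven h1)
      · exact hnP (nca_u42 hnaP h1)
    by_cases h6 : n = 6
    · subst h6
      rcases H64.HTCop.six_cop hC hkS hcop with h1 | ⟨⟨e1⟩⟩ | h1 | h1 | h1 | h1 | h1 | h1
      · exact hnd h1
      · exact hnP (nca_alt hnaP (by norm_num) e1)
      · exact hnP (nca_l2_seven h1)
      · exact hnP (nca_l2_thirteen h1)
      · exact hnP (nca_u33 hnaP h1)
      · exact hnP (nca_l3_four h1)
      · exact hnP (nca_spor hnaP (by
          unfold IsSporadicGroup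
          first
            | exact Or.inr (Or.inr (Or.inr (Or.inr (Or.inr (Or.inl h1)))))
            | tauto))
      · exact hnP (nca_u43 hnaP h1)
    rcases H30.HTS.small hC (by omega) hkS hcop h6 (by omega) with h1 | ⟨-, h1 | h1⟩
    · exact hnd h1
    · exact hnP (nca_l2_twentyfive h1)
    · exact hnP (nca_u34 hnaP h1)
  · rcases H337.HT.dead_big hC hge hcop hkS h2 with h1 | ⟨m, h5, ⟨e1⟩⟩
    · exact hnd h1
    · exact hnP (nca_alt hnaP (by omega) e1)

/-- **The row `RowQ` of S3512.** -/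
theorem row_q : Cfsg.Agent.H19.HT.RowQ.{u} := by
  intro p _ V _ _ _ K _ _ G L h H hL
  have := H.simple
  exact false_of (p := p) (K := K) (V := V) (G := G) (L := L) (h := h)
    ⟨H.half, H.two_le, H.le, H.nrm, H.perf, H.simple, H.nonab, H.lin, H.endo, H.irr⟩
    Cfsg.Agent.S0000.result H.dvd hL

end Cfsg.Agent.H662.HT.RowQ
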