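import Cfsg.Agent.H662.HT.Frame
import Cfsg.Agent.H960.HT.Clif

/-!
# Half-transitive linear groups, soluble part: definitions (S3577; helper662)

`KS G A K χ σ`: the normal abelian subgroup `A` of `G` acts on `V` by scalars of the field `K` generated by it, `G`
acts semilinearly.
`ETwo G A F`: `A` maximal abelian normal, `F / A` of order 4, `C_G(F) ≤ A`.
-/

set_option autoImplicit false

open scoped commutatorElement

namespace Cfsg.Agent.H662.HT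

open Cfsg.Agent.H828.HT

universe u

variable {p : ℕ} [Fact p.Prime] {V : Type u} [AddCommGroup V] [Module (ZMod p) V]

/-- field structure given by a normal abelian subgroup -/
structure KS (G A : Subgroup (V ≃ₗ[ZMod p] V)) (K : Type u) [Field K] [Module K V] (χ : A →* Kˣ)
    (σ : G →* (K ≃+* K)) : Prop where
  fin : Finite K
  inj : Function.Injective χ
  act : ∀ (a : A) (v : V), (a : V ≃ₗ[ZMod p] V) v = (χ a : K) • v
  semi : ∀ (g : G) (k : K) (v : V), (g : V ≃ₗ[ZMod p] V) (k • v) = (σ g k) • ((g : V ≃ₗ[ZMod p] V) v)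
  cen : ∀ g : G, σ g = 1 ↔ ∀ x ∈ A, (g : V ≃ₗ[ZMod p] V) * x = x * g
  gen : ∀ K' : Subfield K, (∀ a : A, (χ a : K) ∈ K') → K' = ⊤

/-- the case `e = 2` -/
structure ETwo (G A F : Subgroup (V ≃ₗ[ZMod p] V)) : Prop where
  AF : A ≤ F
  FG : F ≤ G
  nA : ∀ g ∈ G, ∀ a ∈ A, g * a * g⁻¹ ∈ A
  nF : ∀ g ∈ G, ∀ x ∈ F, g * x * g⁻¹ ∈ F
  cyc : IsCyclic A
  semi : ∀ a ∈ A, a ≠ 1 → ∀ v : V, a v = v → v = 0
  cenA : ∀ a ∈ A, ∀ x ∈ F, a * x = x * a
  card : Nat.card F = 4 * Nat.card A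
  comm : ∀ x ∈ F, ∀ y ∈ F, x * y * x⁻¹ * y⁻¹ ∈ A
  sq : ∀ x ∈ F, x * x ∈ A
  cen : ∀ g ∈ G, (∀ x ∈ F, g * x = x * g) → g ∈ A
  fpf : ∀ x ∈ F, (∀ g ∈ G, g * x * g⁻¹ * x⁻¹ ∈ A) → x ∈ A

end Cfsg.Agent.H662.HT
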